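import Cfsg.Agent.Lib.FusionP3.Tate
import Cfsg.Agent.Lib.FusionP3.StronglyClosed
import Cfsg.Agent.Lib.FusionSystem.Normalizer
import Cfsg.Agent.Lib.FusionSystem.Normal

/-!
Nilpotency of fusion systems in terms of automorphisms of order prime to `p`.
-/

set_option autoImplicit false
set_option linter.style.haveILetI false
set_option linter.unusedSectionVars false

namespace Cfsg.Agent.Lib.FusionP3.GT

open Cfsg Cfsg.FusionSystem Cfsg.Agent.Lib.FS

section Group

variable {G : Type*} [Group G] {p : ℕ} [Fact p.Prime]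

theorem exists_pow_coprime [Finite G] (g : G) : ∃ k, (orderOf (g ^ p ^ k)).Coprime p := by
  obtain ⟨k, m, hm, hkm⟩ := Nat.exists_eq_pow_mul_and_not_dvd (orderOf_pos g).ne' p
    (Fact.out : p.Prime).ne_one
  refine ⟨k, Nat.Coprime.coprime_dvd_left (orderOf_dvd_of_pow_eq_one ?_)
    (((Fact.out : p.Prime).coprime_iff_not_dvd.2 hm).symm)⟩
  rw [← pow_mul, ← hkm, pow_orderOf_eq_one]

theorem eq_one_of_pow_coprime {g : G} (hg : (orderOf g).Coprime p) {k : ℕ} (h : g ^ p ^ k = 1) : g = 1 := by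
  obtain ⟨m, hm⟩ := exists_pow_eq_self_of_coprime (hg.pow_right k).symm
  rw [← hm, h, one_pow]

theorem isPGroup_of_coprime [Finite G] (h : ∀ g : G, (orderOf g).Coprime p → g = 1) : IsPGroup p G :=
  fun g => (exists_pow_coprime g).imp fun _ hk => h _ hk

theorem eq_one_of_coprime_isPGroup {H : Subgroup G} (hH : IsPGroup p H) {g : G} (hg : g ∈ H)
    (hco : (orderOf g).Coprime p) : g = 1 := by
  obtain ⟨k, hk⟩ := hH ⟨g, hg⟩
  exact eq_one_of_pow_coprime hco (congrArg Subtype.val hk)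

theorem coprime_pow {g : G} (hg : (orderOf g).Coprime p) (n : ℕ) : (orderOf (g ^ n)).Coprime p :=
  Nat.Coprime.coprime_dvd_left (orderOf_dvd_of_pow_eq_one
    (by rw [← pow_mul, mul_comm, pow_mul, pow_orderOf_eq_one, one_pow])) hg

theorem finite_mulAut (G : Type*) [Group G] [Finite G] : Finite (MulAut G) :=
  Finite.of_injective (fun f => (f : G → G)) DFunLike.coe_injective

theorem coprime_map {H : Type*} [Group H] (f : G →* H) {g : G} (hg : (orderOf g).Coprime p) :
    (orderOf (f g)).Coprime p :=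
  Nat.Coprime.coprime_dvd_left (orderOf_map_dvd f g) hg

end Group

variable {Ω : Type*} [Group Ω]

/-! ### Restriction of automorphisms -/

/-- The automorphisms of `R` preserving `P`. -/
def preserve (P R : Subgroup Ω) : Subgroup (MulAut R) where
  carrier := {α | ∀ x : R, (x : Ω) ∈ P ↔ ((α x : R) : Ω) ∈ P}
  one_mem' := fun _ => Iff.rfl
  mul_mem' := fun ha hb x => (hb x).trans (ha _)
  inv_mem' := fun {a} ha x => by
    have := ha (a⁻¹ x)
    rw [MulAut.apply_inv_self] at this
    exact this.symm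

/-- Restriction to an invariant subgroup. -/
def res {P R : Subgroup Ω} (h : P ≤ R) : preserve P R →* MulAut P where
  toFun α :=
    { toFun := fun x => ⟨((α.1 (Subgroup.inclusion h x) : R) : Ω), (α.2 _).1 x.2⟩
      invFun := fun x => ⟨((α⁻¹.1 (Subgroup.inclusion h x) : R) : Ω), (α⁻¹.2 _).1 x.2⟩
      left_inv := fun x => Subtype.ext (congrArg (Subtype.val : R → Ω)
        ((congrArg α⁻¹.1 (Subtype.ext rfl)).trans (MulAut.inv_apply_self _ α.1 (Subgroup.inclusion h x))))
      right_inv := fun x => Subtype.ext (congrArg (Subtype.val : R → Ω)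
        ((congrArg α.1 (Subtype.ext rfl)).trans (MulAut.apply_inv_self _ α.1 (Subgroup.inclusion h x))))
      map_mul' := fun x y => Subtype.ext (congrArg (Subtype.val : R → Ω)
        ((congrArg α.1 (map_mul (Subgroup.inclusion h) x y)).trans (map_mul α.1 _ _))) }
  map_one' := MulEquiv.ext fun _ => Subtype.ext rfl
  map_mul' a b := MulEquiv.ext fun _ => Subtype.ext rfl

@[simp] theorem res_coe {P R : Subgroup Ω} (h : P ≤ R) (α : preserve P R) (x : P) :
    ((res h α x : P) : Ω) = ((α.1 (Subgroup.inclusion h x) : R) : Ω) := rfl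

variable {S : Subgroup Ω}

theorem res_mem_autGroup {F : FusionSystem S} {P R : Subgroup Ω} (h : P ≤ R) (hR : R ≤ S)
    {α : preserve P R} (hα : α.1 ∈ F.autGroup R) : res h α ∈ F.autGroup P := by
  obtain ⟨φ, hφ, -, he⟩ := exists_hom_of_aut hR hα
  obtain ⟨ψ, hψ, e⟩ := exists_restrict hφ h
  exact mem_autGroup_of_hom hψ fun x => ((e x).trans (he _)).symm

/-! ### The predicates -/

/-- Every automorphism of the system of order prime to `p` is trivial. -/
def PTriv (F : FusionSystem S) (p : ℕ) : Prop :=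
  ∀ P : Subgroup Ω, P ≤ S → ∀ α ∈ F.autGroup P, (orderOf α).Coprime p → α = 1

/-- The normalizer of `U` in the system has no automorphism of order prime to `p`. -/
def NTriv (F : FusionSystem S) (p : ℕ) (U : Subgroup Ω) : Prop :=
  ∀ D : Subgroup Ω, U ≤ D → D ≤ normalizerIn S U → ∀ α ∈ F.autGroup D,
    (∀ x : D, (x : Ω) ∈ U → ((α x : D) : Ω) ∈ U) → (orderOf α).Coprime p → α = 1

variable {p : ℕ} {F : FusionSystem S}

theorem autGroup_mono {T : Subgroup Ω} {E : FusionSystem T} (h : E.IsSubsystemOf F) {P : Subgroup Ω}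
    (hP : P ≤ T) : E.autGroup P ≤ F.autGroup P := fun _ ha =>
  mem_autGroup_of_hom (h P ((mem_autGroup hP).1 ha)) fun _ => rfl

theorem NTriv.of_subsystem {E : FusionSystem S} {U : Subgroup Ω} (h : E.IsSubsystemOf F) (hF : NTriv F p U) :
    NTriv E p U :=
  fun D hUD hD α hα hp hco => hF D hUD hD α (autGroup_mono h (hD.trans (normalizerIn_le U)) hα) hp hco

/-- An `F`-automorphism preserving `U` is a map of the normalizer system. -/
theorem mem_autGroup_normalizerSystem {U : Subgroup Ω} {N : FusionSystem (normalizerIn S U)}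
    (hN : F.IsNormalizerSystem U N) {D : Subgroup Ω} [Finite D] (hUD : U ≤ D) (hD : D ≤ normalizerIn S U)
    {α : MulAut D} (hα : α ∈ F.autGroup D) (hpres : ∀ x : D, (x : Ω) ∈ U → ((α x : D) : Ω) ∈ U) :
    α ∈ N.autGroup D := by
  obtain ⟨φ, hφ, -, he⟩ := exists_hom_of_aut (hD.trans (normalizerIn_le U)) hα
  refine (mem_autGroup hD).2 ?_
  rw [hN D]
  refine ⟨hom_congr hφ fun x => (he x).symm, hD, fun x => hD (α x).2, ?_⟩
  obtain ⟨ψ, hψ, e⟩ := exists_restrict hφ (sup_le le_rfl hUD : D ⊔ U ≤ D)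
  refine ⟨ψ, hψ, fun x => (e _).trans (he _), ?_⟩
  haveI : Finite U := Finite.of_injective (Subgroup.inclusion hUD) (Subgroup.inclusion_injective hUD)
  exact map_subgroupOf_eq_of_mapsTo hψ le_sup_right fun x hx => by
    rw [e, he]; exact hpres _ hx

variable [Finite S]

theorem NTriv.of_ptriv_normalizer {U : Subgroup Ω} {N : FusionSystem (normalizerIn S U)}
    (hN : F.IsNormalizerSystem U N) (h : PTriv N p) : NTriv F p U := fun D hUD hD α hα hp hco => by
  haveI := finite_sub (hD.trans (normalizerIn_le U))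
  exact h D hD α (mem_autGroup_normalizerSystem hN hUD hD hα hp) hco

theorem NTriv.of_map {U U' : Subgroup Ω} {ψ : normalizerIn S U →* Ω}
    (hψ : ψ ∈ F.Hom (normalizerIn S U)) (hm : ∀ x, ψ x ∈ normalizerIn S U')
    (hUU' : (U.subgroupOf (normalizerIn S U)).map ψ = U') (h : NTriv F p U') : NTriv F p U := by
  intro D hUD hD α hα hpres hco
  obtain ⟨φ, hφ, e⟩ := exists_restrict hψ hD
  have hU'D : U' ≤ φ.range := by
    rw [← hUU']
    rintro _ ⟨y, hy, rfl⟩
    exact ⟨⟨y, hUD (Subgroup.mem_subgroupOf.1 hy)⟩, e _⟩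
  have hD' : φ.range ≤ normalizerIn S U' := by rintro _ ⟨x, rfl⟩; rw [e]; exact hm _
  have hmem : ∀ x : D, φ x ∈ U' ↔ (x : Ω) ∈ U := by
    intro x
    rw [← hUU', e]
    constructor
    · rintro ⟨y, hy, hyx⟩
      rw [F.injective_of_mem hψ hyx] at hy
      exact Subgroup.mem_subgroupOf.1 hy
    · exact fun hx => ⟨_, Subgroup.mem_subgroupOf.2 hx, rfl⟩
  have hone := h φ.range hU'D hD' _ (congr_mem_autGroup hφ rfl hα) ?_
    (by rw [MulEquiv.orderOf_eq]; exact hco)
  · exact (MulAut.congr (homEquiv hφ (rfl : φ.range = φ.range))).injective (hone.trans (map_one _).symm)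
  · intro y hy
    obtain ⟨x, rfl⟩ := (homEquiv hφ (rfl : φ.range = φ.range)).surjective y
    rw [congr_apply hφ rfl, hmem]
    exact hpres x ((hmem x).1 hy)

variable [Fact p.Prime]

theorem eq_inner_of_ptriv (hS : IsPGroup p S) (hF : F.IsSaturated p) (h : PTriv F p) :
    ∀ P : Subgroup Ω, F.Hom P = (innerFusionSystem S).Hom P := by
  refine Tate.eq_inner_of_hyperfocal_eq_bot hS hF (le_bot_iff.1 ((Subgroup.closure_le _).2 ?_))
  rintro _ ⟨P, α, x, hP, hα, rfl⟩
  have hbot : pResidual p (F.autGroup P) ≤ ⊥ := Transfer.PResidual.pResidual_le_iff.2 fun g hg =>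
    Subgroup.mem_bot.2 (Subtype.ext (h P hP g g.2 (by rwa [Subgroup.orderOf_coe])))
  simp [Subgroup.mem_bot.1 (hbot hα)]

theorem ptriv_of_inner (hS : IsPGroup p S) (h : ∀ P : Subgroup Ω, F.Hom P = (innerFusionSystem S).Hom P) :
    PTriv F p := by
  intro P hP α hα hco
  have h1 := (mem_autGroup hP).1 hα
  rw [h] at h1
  obtain ⟨-, g, hg, e⟩ := h1
  exact eq_one_of_coprime_isPGroup (isPGroup_autInducedBy hS P)
    (mem_autInducedBy.2 ⟨g, hg, fun x => e x⟩) hco

omit [Finite S] in
theorem PTriv.congr {T : Subgroup Ω} {E : FusionSystem T} (h : ∀ P, E.Hom P = F.Hom P) (hT : T = S)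
    (hE : PTriv E p) : PTriv F p := by
  subst hT
  intro P hP α hα hco
  exact hE P hP α ((mem_autGroup hP).2 (by rw [h]; exact (mem_autGroup hP).1 hα)) hco

theorem normalizerHom_inner_iff (hI : ∀ P : Subgroup Ω, F.Hom P = (innerFusionSystem S).Hom P) {W : Subgroup Ω}
    (hW : W ≤ S) (N : FusionSystem (normalizerIn S W)) (hN : F.IsNormalizerSystem W N) (P : Subgroup Ω)
    (hn : S ≤ Subgroup.normalizer (W : Set Ω)) :
    N.Hom P = (innerFusionSystem (normalizerIn S W)).Hom P := by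
  rw [hN P]
  refine Set.Subset.antisymm (fun φ hφ => ?_) ?_
  · have h := hφ.1
    rw [hI] at h
    obtain ⟨-, g, hg, e⟩ := h
    exact ⟨hφ.2.1, g, ⟨hg, hn hg⟩, e⟩
  · rintro φ ⟨hP, g, hg, e⟩
    have hPS : P ≤ S := hP.trans (normalizerIn_le W)
    refine ⟨mem_of_conj F hPS hg.1 e, hP,
      fun x => by rw [e]; exact mul_mem (mul_mem hg (hP x.2)) (inv_mem hg),
      conjHom (P ⊔ W) g, F.conj_mem (sup_le hPS hW) hg.1, fun x => (e x).symm, ?_⟩
    haveI := finite_sub hW
    exact map_subgroupOf_eq_of_mapsTo (F.conj_mem (sup_le hPS hW) hg.1) le_sup_right fun x hx =>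
      conj_mem_of_normalizer hg.2 hx

end Cfsg.Agent.Lib.FusionP3.GT
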