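import Cfsg.Prelude.Def_PLocal
import Cfsg.Agent.Lib.FusionP3.GT.Basic
import Cfsg.Agent.Lib.ZJ.Replacement
import Cfsg.Agent.Lib.PGroups.Omega

/-!
Families of abelian subgroups with invariance and replacement; the family of abelian subgroups of largest order.
-/

set_option autoImplicit false
set_option linter.style.haveILetI false
set_option linter.unusedSectionVars false

namespace Cfsg.Agent.Lib.FusionP3.GT

open Cfsg Cfsg.FusionSystem Cfsg.Agent.Lib.FS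
open scoped commutatorElement

variable {Ω : Type*} [Group Ω] {S : Subgroup Ω}

/-- A family of abelian subgroups of `S` allowing replacement with respect to subgroups normal in `S`. -/
structure Fam (S : Subgroup Ω) (𝒜 : Set (Subgroup Ω)) : Prop where
  le : ∀ A ∈ 𝒜, A ≤ S
  comm : ∀ A ∈ 𝒜, ∀ x ∈ A, ∀ y ∈ A, x * y = y * x
  nonempty : 𝒜.Nonempty
  rep : ∀ B : Subgroup Ω, B ≤ S → S ≤ Subgroup.normalizer (B : Set Ω) → ⁅⁅B, B⁆, B⁆ = ⊥ →
    (∃ A ∈ 𝒜, ⁅B, B⁆ ≤ A ∧ ¬ B ≤ A) →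
      ∃ A ∈ 𝒜, ⁅B, B⁆ ≤ A ∧ ¬ B ≤ A ∧ B ≤ Subgroup.normalizer (A : Set Ω)

/-- `I(Q)`: the intersection of the members contained in `Q`. -/
def interIn (𝒜 : Set (Subgroup Ω)) (Q : Subgroup Ω) : Subgroup Ω := ⨅ A ∈ {A : Subgroup Ω | A ∈ 𝒜 ∧ A ≤ Q}, A

/-- The intersection of all members. -/
def inter (𝒜 : Set (Subgroup Ω)) : Subgroup Ω := ⨅ A ∈ 𝒜, A

theorem mem_interIn {𝒜 : Set (Subgroup Ω)} {Q : Subgroup Ω} {x : Ω} :
    x ∈ interIn 𝒜 Q ↔ ∀ A ∈ 𝒜, A ≤ Q → x ∈ A := by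
  simp [interIn, Subgroup.mem_iInf]

theorem mem_inter {𝒜 : Set (Subgroup Ω)} {x : Ω} : x ∈ inter 𝒜 ↔ ∀ A ∈ 𝒜, x ∈ A := by
  simp [inter, Subgroup.mem_iInf]

/-- Invariance of the intersections under the automorphisms of the system. -/
def Inv (F : FusionSystem S) (𝒜 : Set (Subgroup Ω)) : Prop :=
  ∀ Q : Subgroup Ω, Q ≤ S → (∃ A ∈ 𝒜, A ≤ Q) → ∀ α ∈ F.autGroup Q, ∀ x : Q,
    (x : Ω) ∈ interIn 𝒜 Q → ((α x : Q) : Ω) ∈ interIn 𝒜 Q

theorem Inv.of_subsystem {E F : FusionSystem S} {𝒜 : Set (Subgroup Ω)} (h : E.IsSubsystemOf F) (hF : Inv F 𝒜) :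
    Inv E 𝒜 := fun Q hQ hex α hα => hF Q hQ hex α (autGroup_mono h hQ hα)

namespace Fam

variable {𝒜 : Set (Subgroup Ω)} (h : Fam S 𝒜)
include h

theorem interIn_self : interIn 𝒜 S = inter 𝒜 := by
  ext x
  rw [mem_interIn, mem_inter]
  exact ⟨fun hx A hA => hx A hA (h.le A hA), fun hx A hA _ => hx A hA⟩

theorem inter_le : inter 𝒜 ≤ S := fun x hx => by
  obtain ⟨A, hA⟩ := h.nonempty
  exact h.le A hA (mem_inter.1 hx A hA)

theorem inter_comm : ∀ x ∈ inter 𝒜, ∀ y ∈ inter 𝒜, x * y = y * x := fun x hx y hy => by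
  obtain ⟨A, hA⟩ := h.nonempty
  exact h.comm A hA x (mem_inter.1 hx A hA) y (mem_inter.1 hy A hA)

theorem le_normalizer_inter [Finite S] {F : FusionSystem S} (hinv : Inv F 𝒜) :
    S ≤ Subgroup.normalizer (inter 𝒜 : Set Ω) := by
  haveI := finite_sub h.inter_le
  refine fun g hg => mem_normalizer_of_conj_mem fun x hx => ?_
  have hα : S.normalizerMonoidHom ⟨g, Subgroup.le_normalizer hg⟩ ∈ F.autGroup S :=
    autInducedBy_le_autGroup F le_rfl (mem_autInducedBy.2 ⟨g, hg, fun _ => rfl⟩)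
  rw [← h.interIn_self] at hx ⊢
  obtain ⟨A, hA⟩ := h.nonempty
  exact hinv S le_rfl ⟨A, hA, h.le A hA⟩ _ hα ⟨x, by rw [h.interIn_self] at hx; exact h.inter_le hx⟩ hx

end Fam

/-- The abelian subgroups of `D` of largest order. -/
def maxAbelIn (D : Subgroup Ω) : Set (Subgroup Ω) :=
  {A | A ≤ D ∧ (∀ x ∈ A, ∀ y ∈ A, x * y = y * x) ∧
    ∀ B : Subgroup Ω, B ≤ D → (∀ x ∈ B, ∀ y ∈ B, x * y = y * x) → Nat.card B ≤ Nat.card A}

section Finite

variable [Finite S] {D : Subgroup Ω}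

theorem maxAbelIn_nonempty (hD : D ≤ S) : (maxAbelIn D).Nonempty := by
  haveI := finite_sub hD
  let f : Subgroup D → Subgroup Ω := fun A => A.map D.subtype
  have hfin : {A : Subgroup Ω | A ≤ D ∧ ∀ x ∈ A, ∀ y ∈ A, x * y = y * x}.Finite :=
    (Set.finite_range f).subset fun A hA => ⟨A.subgroupOf D, Subgroup.map_subgroupOf_eq_of_le hA.1⟩
  obtain ⟨A, hA, hmax⟩ := Set.exists_max_image _ (fun A : Subgroup Ω => Nat.card A) hfin
    ⟨⊥, bot_le, fun x hx y hy => by rw [Subgroup.mem_bot.1 hx, Subgroup.mem_bot.1 hy]⟩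
  exact ⟨A, hA.1, hA.2, fun B hB hBc => hmax B ⟨hB, hBc⟩⟩

theorem closure_singleton_sup_comm {A : Subgroup Ω} (hA : ∀ a ∈ A, ∀ b ∈ A, a * b = b * a) {x : Ω}
    (hx : ∀ a ∈ A, a * x = x * a) :
    ∀ u ∈ A ⊔ Subgroup.zpowers x, ∀ v ∈ A ⊔ Subgroup.zpowers x, u * v = v * u := by
  intro u hu v hv
  have h1 : A ⊔ Subgroup.zpowers x ≤ Subgroup.centralizer ((A ⊔ Subgroup.zpowers x : Subgroup Ω) : Set Ω) := by
    rw [Subgroup.le_centralizer_iff]
    refine sup_le (fun a ha => ?_) ?_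
    · rw [Subgroup.mem_centralizer_iff]
      intro w hw
      have : A ⊔ Subgroup.zpowers x ≤ Subgroup.centralizer {a} := sup_le
        (fun b hb => Subgroup.mem_centralizer_singleton_iff.2 (hA b hb a ha))
        (Subgroup.zpowers_le.2 (Subgroup.mem_centralizer_singleton_iff.2 (hx a ha).symm))
      exact Subgroup.mem_centralizer_singleton_iff.1 (this hw)
    · rw [Subgroup.zpowers_le, Subgroup.mem_centralizer_iff]
      intro w hw
      have : A ⊔ Subgroup.zpowers x ≤ Subgroup.centralizer {x} := sup_le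
        (fun b hb => Subgroup.mem_centralizer_singleton_iff.2 (hx b hb))
        (Subgroup.zpowers_le.2 (Subgroup.mem_centralizer_singleton_iff.2 rfl))
      exact Subgroup.mem_centralizer_singleton_iff.1 (this hw)
  exact h1 hv u hu

theorem inter_maxAbelIn (hD : D ≤ S) : inter (maxAbelIn D) = centerThompsonAOf D := by
  haveI := finite_sub hD
  have hJ : thompsonSubgroupAOf D = ⨆ A ∈ maxAbelIn D, A := by
    rw [thompsonSubgroupAOf, thompsonSubgroupA]
    refine le_antisymm (Subgroup.map_le_iff_le_comap.2 (sSup_le fun A hA => Subgroup.map_le_iff_le_comap.1 ?_))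
      (iSup₂_le fun A hA => ?_)
    · refine le_iSup₂_of_le (A.map D.subtype) ⟨Subgroup.map_subtype_le A, ?_, fun B hB hBc => ?_⟩ le_rfl
      · rintro _ ⟨x, hx, rfl⟩ _ ⟨y, hy, rfl⟩
        have := hA.1
        exact congrArg Subtype.val (setLike_mul_comm (s := A) hx hy)
      · rw [Subgroup.card_map_of_injective D.subtype_injective]
        refine le_trans (le_of_eq (Nat.card_congr (Subgroup.subgroupOfEquivOfLe hB).toEquiv).symm) (hA.2 _ ?_)
        exact ⟨⟨fun x y => Subtype.ext (Subtype.ext (hBc _ x.2 _ y.2))⟩⟩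
    · rw [← Subgroup.map_subgroupOf_eq_of_le hA.1]
      refine Subgroup.map_mono (le_sSup ⟨⟨⟨fun x y => Subtype.ext (Subtype.ext (hA.2.1 _ x.2 _ y.2))⟩⟩,
        fun B hB => ?_⟩)
      rw [Nat.card_congr (Subgroup.subgroupOfEquivOfLe hA.1).toEquiv,
        ← Subgroup.card_map_of_injective D.subtype_injective (K := B)]
      refine hA.2.2 _ (Subgroup.map_subtype_le B) ?_
      rintro _ ⟨x, hx, rfl⟩ _ ⟨y, hy, rfl⟩
      exact congrArg Subtype.val (setLike_mul_comm (s := B) hx hy)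
  ext x
  rw [centerThompsonAOf, Subgroup.mem_inf, mem_inter, hJ]
  constructor
  · intro hx
    obtain ⟨A₀, hA₀⟩ := maxAbelIn_nonempty hD
    refine ⟨(le_iSup₂_of_le A₀ hA₀ le_rfl : A₀ ≤ _) (hx A₀ hA₀), Subgroup.mem_centralizer_iff.2 fun y hy => ?_⟩
    have : (⨆ A ∈ maxAbelIn D, A) ≤ Subgroup.centralizer {x} := iSup₂_le fun A hA a ha =>
      Subgroup.mem_centralizer_singleton_iff.2 (hA.2.1 a ha x (hx A hA))
    exact Subgroup.mem_centralizer_singleton_iff.1 (this hy)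
  · rintro ⟨hxJ, hxC⟩ A hA
    have hxD : x ∈ D := (iSup₂_le fun B hB => hB.1 : (⨆ A ∈ maxAbelIn D, A) ≤ D) hxJ
    have hle : A ⊔ Subgroup.zpowers x ≤ D := sup_le hA.1 (Subgroup.zpowers_le.2 hxD)
    haveI := finite_sub (hle.trans hD)
    have hc := closure_singleton_sup_comm hA.2.1 fun a ha => Subgroup.mem_centralizer_iff.1 hxC a
      ((le_iSup₂_of_le A hA le_rfl : A ≤ ⨆ A ∈ maxAbelIn D, A) ha)
    rw [Subgroup.eq_of_le_of_card_ge le_sup_left (hA.2.2 _ hle hc)]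
    exact Subgroup.mem_sup_right (Subgroup.mem_zpowers x)

theorem map_mem_maxAbelIn {A A' : Subgroup Ω} (hA : A ∈ maxAbelIn D) (hA' : A' ≤ D)
    (hc : ∀ x ∈ A', ∀ y ∈ A', x * y = y * x) (hcard : Nat.card A' = Nat.card A) : A' ∈ maxAbelIn D :=
  ⟨hA', hc, fun B hB hBc => hcard ▸ hA.2.2 B hB hBc⟩

theorem centerThompsonAOf_le (hD : D ≤ S) : centerThompsonAOf D ≤ D := by
  obtain ⟨A, hA⟩ := maxAbelIn_nonempty hD
  intro x hx
  rw [← inter_maxAbelIn hD] at hx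
  exact hA.1 (mem_inter.1 hx A hA)

/-- The centre of `J(D)` is normalized by whatever normalizes `D`. -/
theorem conj_mem_centerThompsonAOf (hD : D ≤ S) {g : Ω} (hg : g ∈ Subgroup.normalizer (D : Set Ω)) {x : Ω}
    (hx : x ∈ centerThompsonAOf D) : g * x * g⁻¹ ∈ centerThompsonAOf D := by
  rw [← inter_maxAbelIn hD, mem_inter] at hx ⊢
  intro A hA
  have hmem : A.map (MulAut.conj g⁻¹).toMonoidHom ∈ maxAbelIn D := by
    refine map_mem_maxAbelIn hA ?_ ?_ (Subgroup.card_map_of_injective (MulEquiv.injective _))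
    · rintro _ ⟨a, ha, rfl⟩
      simpa using conj_inv_mem_of_normalizer hg (hA.1 ha)
    · rintro _ ⟨a, ha, rfl⟩ _ ⟨b, hb, rfl⟩
      rw [← map_mul, ← map_mul, hA.2.1 a ha b hb]
  obtain ⟨a, ha, hax⟩ := hx _ hmem
  rw [← hax]
  simpa [mul_assoc] using ha

theorem centerThompsonAOf_ne_bot {p : ℕ} [Fact p.Prime] (hS : IsPGroup p S) (hD : D ≤ S) (hne : D ≠ ⊥) :
    centerThompsonAOf D ≠ ⊥ := by
  haveI := finite_sub hD
  haveI : Nontrivial D := (Subgroup.nontrivial_iff_ne_bot D).2 hne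
  haveI : Nontrivial (Subgroup.center D) := (isPGroup_of_le hS hD).center_nontrivial
  obtain ⟨⟨z, hz⟩, hz1⟩ := exists_ne (1 : Subgroup.center D)
  intro hbot
  have hzC : (z : Ω) ∈ centerThompsonAOf D := by
    rw [← inter_maxAbelIn hD, mem_inter]
    intro A hA
    have hle : A ⊔ Subgroup.zpowers (z : Ω) ≤ D := sup_le hA.1 (Subgroup.zpowers_le.2 z.2)
    haveI := finite_sub (hle.trans hD)
    have hc := closure_singleton_sup_comm hA.2.1 fun a ha =>
      congrArg Subtype.val (Subgroup.mem_center_iff.1 hz ⟨a, hA.1 ha⟩)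
    rw [Subgroup.eq_of_le_of_card_ge le_sup_left (hA.2.2 _ hle hc)]
    exact Subgroup.mem_sup_right (Subgroup.mem_zpowers _)
  rw [hbot, Subgroup.mem_bot] at hzC
  exact hz1 (Subtype.ext (Subtype.ext hzC))

variable {p : ℕ} [Fact p.Prime]

/-- The family of abelian subgroups of largest order of a subgroup normal in `S`, for odd `p`. -/
theorem fam_maxAbelIn (hS : IsPGroup p S) (hp : p ≠ 2) (hD : D ≤ S)
    (hn : ∀ g ∈ S, ∀ x ∈ D, g * x * g⁻¹ ∈ D) : Fam S (maxAbelIn D) := by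
  refine ⟨fun A hA => hA.1.trans hD, fun A hA => hA.2.1, maxAbelIn_nonempty hD, ?_⟩
  rintro B hB hBn - ⟨A₀, hA₀, hdA, hnA⟩
  let 𝒢 : Set (Subgroup S) := {A | A.map S.subtype ∈ maxAbelIn D}
  have hmap : ⁅B.subgroupOf S, B.subgroupOf S⁆.map S.subtype = ⁅B, B⁆ := by
    rw [Subgroup.map_commutator, Subgroup.map_subgroupOf_eq_of_le hB]
  have hpull : ∀ {K : Subgroup S} {L : Subgroup Ω}, L ≤ S → (K.map S.subtype ≤ L ↔ K ≤ L.subgroupOf S) :=
    fun {K L} _ => Subgroup.map_le_iff_le_comap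
  obtain ⟨A, hA, hdA', hnA', hBN⟩ := ZJ.Replacement.exists_normalizes (p := p) (P := (⊤ : Subgroup S))
    (B := B.subgroupOf S) 𝒢 (hS.to_subgroup ⊤) le_top
    (fun g _ => mem_normalizer_of_conj_mem fun x hx =>
      Subgroup.mem_subgroupOf.2 (conj_mem_of_normalizer (hBn g.2) (Subgroup.mem_subgroupOf.1 hx)))
    (Or.inl hp) (fun _ _ => le_top)
    (fun A hA x hx y hy => Subtype.ext (hA.2.1 _ ⟨x, hx, rfl⟩ _ ⟨y, hy, rfl⟩))
    (fun A hA b _ A' hA' hc hcard _ => by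
      refine map_mem_maxAbelIn hA ?_ ?_ ?_
      · refine (Subgroup.map_mono hA').trans ?_
        rw [Subgroup.map_sup]
        refine sup_le hA.1 ?_
        rintro _ ⟨_, ⟨a, ha, rfl⟩, rfl⟩
        have := hn _ (inv_mem b.2) _ (hA.1 ⟨a, ha, rfl⟩)
        simpa using this
      · rintro _ ⟨x, hx, rfl⟩ _ ⟨y, hy, rfl⟩
        exact congrArg Subtype.val (hc x hx y hy)
      · rw [Subgroup.card_map_of_injective S.subtype_injective, Subgroup.card_map_of_injective S.subtype_injective,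
          hcard])
    (U := A₀.subgroupOf S)
    (by show _ ∈ maxAbelIn D; rwa [Subgroup.map_subgroupOf_eq_of_le (hA₀.1.trans hD)])
    ((hpull (hA₀.1.trans hD)).1 (hmap.le.trans hdA))
    (fun hle => hnA fun x hx => hle (show (⟨x, hB hx⟩ : S) ∈ B.subgroupOf S from hx))
  refine ⟨A.map S.subtype, hA, hmap ▸ Subgroup.map_mono hdA', fun hle => hnA' fun x hx => ?_, fun b hb => ?_⟩
  · obtain ⟨a, ha, hax⟩ := hle (Subgroup.mem_subgroupOf.1 hx)
    rwa [Subtype.ext hax] at ha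
  · haveI := finite_sub (S := S) (Subgroup.map_subtype_le A)
    refine mem_normalizer_of_conj_mem ?_
    rintro _ ⟨a, ha, rfl⟩
    exact ⟨(⟨b, hB hb⟩ : S) * a * (⟨b, hB hb⟩ : S)⁻¹,
      conj_mem_of_normalizer (hBN (show (⟨b, hB hb⟩ : S) ∈ B.subgroupOf S from hb)) ha, rfl⟩

/-- The intersections of the largest abelian subgroups of a strongly closed subgroup are invariant. -/
theorem inv_maxAbelIn {F : FusionSystem S} (hD : F.StronglyClosed D) : Inv F (maxAbelIn D) := by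
  intro Q hQ _ α hα x hx
  rw [mem_interIn] at hx ⊢
  intro A hA hAQ
  obtain ⟨φ, hφ, -, he⟩ := exists_hom_of_aut hQ (inv_mem hα)
  have hmem : (A.subgroupOf Q).map φ ∈ maxAbelIn D := by
    refine map_mem_maxAbelIn hA ?_ ?_ ?_
    · rintro _ ⟨y, hy, rfl⟩
      exact StronglyClosed.apply_mem_of_stronglyClosed hD hφ y (hA.1 hy)
    · rintro _ ⟨y, hy, rfl⟩ _ ⟨z, hz, rfl⟩
      rw [← map_mul, ← map_mul]
      exact congrArg φ (Subtype.ext (hA.2.1 _ hy _ hz))
    · rw [Subgroup.card_map_of_injective (F.injective_of_mem hφ),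
        Nat.card_congr (Subgroup.subgroupOfEquivOfLe hAQ).toEquiv]
  obtain ⟨a, ha, hax⟩ := hx _ hmem (by rintro _ ⟨y, -, rfl⟩; rw [he]; exact (α⁻¹ y).2)
  have h1 : α⁻¹ a = x := Subtype.ext ((he a).symm.trans hax)
  rw [← h1, MulAut.apply_inv_self]
  exact ha

end Finite

end Cfsg.Agent.Lib.FusionP3.GT
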