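import Cfsg.Agent.Lib.FusionP3.GT.Outer
import Cfsg.Agent.Lib.FusionP3.GT.Family
import Cfsg.Agent.Lib.FusionSystem.Group
import Cfsg.Agent.Lib.Transfer.Frobenius
import Cfsg.Agent.Lib.Cores.InvariantSylow

/-!
A maximal Sylow subgroup and an inductive nilpotency criterion give the shape of the outer automorphism group.
-/

set_option autoImplicit false
set_option linter.style.haveILetI false
set_option linter.unusedSectionVars false

namespace Cfsg.Agent.Lib.FusionP3.GT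

open Cfsg Cfsg.FusionSystem Cfsg.Agent.Lib.FS

universe u

section Abstract

variable {G : Type u} [Group G] [Finite G] {p : ℕ} [Fact p.Prime]

/-- `Z(J(T))` is normalized only by `T`, so the fusion of `T` is trivial on automorphisms of order prime to `p`. -/
theorem ntriv_group (T : Sylow p G) (hmax : ∀ M : Subgroup G, (T : Subgroup G) ≤ M → M = ⊤ ∨ M ≤ T)
    (hcore : ∀ N : Subgroup G, N.Normal → IsPGroup p N → N = ⊥) :
    NTriv (groupFusionSystem (T : Subgroup G)) p (centerThompsonAOf (T : Subgroup G)) := by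
  intro D hVD hD α hα hpres hco
  have hDT : D ≤ T := hD.trans (normalizerIn_le _)
  rcases eq_or_ne (T : Subgroup G) ⊥ with hT | hT
  · refine MulEquiv.ext fun x => Subtype.ext ?_
    have h1 : ∀ y : D, (y : G) = 1 := fun y => Subgroup.mem_bot.1 (hT.le (hDT y.2))
    rw [h1, h1]
  rw [group_autGroup hDT, mem_autInducedBy] at hα
  obtain ⟨g, -, hg⟩ := hα
  refine eq_one_of_coprime_isPGroup (isPGroup_autInducedBy T.isPGroup' D) (mem_autInducedBy.2 ⟨g, ?_, hg⟩) hco
  set V := centerThompsonAOf (T : Subgroup G)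
  have hV : (T : Subgroup G) ≤ Subgroup.normalizer (V : Set G) := fun t ht =>
    mem_normalizer_of_conj_mem fun x hx =>
      conj_mem_centerThompsonAOf le_rfl (Subgroup.le_normalizer ht) hx
  have hgV : g ∈ Subgroup.normalizer (V : Set G) := mem_normalizer_of_conj_mem fun x hx => by
    rw [← hg ⟨x, hVD hx⟩]; exact hpres _ hx
  rcases hmax _ hV with h | h
  · refine absurd (hcore V ⟨fun x hx y => conj_mem_of_normalizer (h.ge (Subgroup.mem_top y)) hx⟩ ?_)
      (centerThompsonAOf_ne_bot T.isPGroup' le_rfl hT)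
    exact T.isPGroup'.to_le (centerThompsonAOf_le le_rfl)
  · exact h hgV

/-- The normal complement of a maximal Sylow subgroup with trivial fusion is an abelian minimal normal subgroup. -/
theorem exists_complement (T : Sylow p G) (hT : (T : Subgroup G) ≠ ⊤)
    (hmax : ∀ M : Subgroup G, (T : Subgroup G) ≤ M → M = ⊤ ∨ M ≤ T)
    (hcore : ∀ N : Subgroup G, N.Normal → IsPGroup p N → N = ⊥) (hP : PTriv (groupFusionSystem (T : Subgroup G)) p) :
    ∃ K : Subgroup G, K.Normal ∧ (∀ a ∈ K, ∀ b ∈ K, a * b = b * a) ∧ ¬ p ∣ Nat.card K ∧ K ≠ ⊥ ∧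
      (∀ x : G, ∃ t ∈ (T : Subgroup G), ∃ k ∈ K, x = t * k) ∧
      (∀ N : Subgroup G, N.Normal → K ≤ N ∨ N = ⊥) ∧
      ∀ t ∈ (T : Subgroup G), (∀ k ∈ K, t * k = k * t) → t = 1 := by
  have hnc : HasNormalPComplement p G := by
    refine Transfer.Frobenius.hasNormalPComplement_of_forall_centralizes fun Q hQ _ g hg hco => ?_
    obtain ⟨P, hQP⟩ := hQ.exists_le_sylow
    obtain ⟨x, hx⟩ := MulAction.exists_smul_eq G P T
    set Q' := Q.map (MulAut.conj x).toMonoidHom with hQ'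
    have hQ'T : Q' ≤ T := by
      rw [← hx, Sylow.coe_subgroup_smul]
      exact Subgroup.map_mono hQP
    have hg' : x * g * x⁻¹ ∈ Subgroup.normalizer (Q' : Set G) :=
      Subgroup.le_normalizer_map (MulAut.conj x).toMonoidHom ⟨g, hg, rfl⟩
    have hα : Q'.normalizerMonoidHom ⟨_, hg'⟩ ∈ (groupFusionSystem (T : Subgroup G)).autGroup Q' := by
      rw [group_autGroup hQ'T]
      exact mem_autInducedBy.2 ⟨_, Subgroup.mem_top _, fun _ => rfl⟩
    have hco' : (orderOf (⟨_, hg'⟩ : Subgroup.normalizer (Q' : Set G))).Coprime p := by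
      rw [← Subgroup.orderOf_coe]
      exact coprime_map (MulAut.conj x).toMonoidHom hco
    have h1 := hP Q' hQ'T _ hα (coprime_map _ hco')
    refine Subgroup.mem_centralizer_iff.2 fun q hq => ?_
    have h2 : x * g * x⁻¹ * (x * q * x⁻¹) * (x * g * x⁻¹)⁻¹ = x * q * x⁻¹ :=
      congrArg (fun f : MulAut Q' => ((f ⟨x * q * x⁻¹, ⟨q, hq, rfl⟩⟩ : Q') : G)) h1
    have h3 : g * q * g⁻¹ = q := by
      calc g * q * g⁻¹ = x⁻¹ * (x * g * x⁻¹ * (x * q * x⁻¹) * (x * g * x⁻¹)⁻¹) * x := by group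
        _ = q := by rw [h2]; group
    exact (mul_inv_eq_iff_eq_mul.1 h3).symm
  have hcomp := Transfer.PResidual.isComplement'_pResidual hnc T
  set K := pResidual p G with hK
  haveI hKn : K.Normal := inferInstance
  have hKp : ¬ p ∣ Nat.card K := Transfer.PResidual.hasNormalPComplement_iff_not_dvd.1 hnc
  have hdisj : ∀ {t : G}, t ∈ (T : Subgroup G) → t ∈ K → t = 1 := fun ht htK =>
    Subgroup.mem_bot.1 ((hcomp.disjoint.le_bot) ⟨htK, ht⟩)
  have hdec : ∀ x : G, ∃ t ∈ (T : Subgroup G), ∃ k ∈ K, x = t * k := fun x => by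
    obtain ⟨t, ht, k, hk, e⟩ := Subgroup.mem_sup_of_normal_right.1
      (show x ∈ (T : Subgroup G) ⊔ K by rw [sup_comm, hcomp.sup_eq_top]; exact Subgroup.mem_top x)
    exact ⟨t, ht, k, hk, e.symm⟩
  have hne : K ≠ ⊥ := by
    intro h
    refine hT (eq_top_iff.2 fun x _ => ?_)
    obtain ⟨t, ht, k, hk, rfl⟩ := hdec x
    rw [h, Subgroup.mem_bot] at hk
    rw [hk, mul_one]; exact ht
  have hmin : ∀ L : Subgroup G, L ≤ K → (∀ t ∈ (T : Subgroup G), ∀ l ∈ L, t * l * t⁻¹ ∈ L) → L ≠ ⊥ → K ≤ L := by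
    intro L hLK hTL hL k hk
    rcases hmax _ (le_sup_left : (T : Subgroup G) ≤ (T : Subgroup G) ⊔ L) with h | h
    · obtain ⟨t, ht, l, hl, rfl⟩ := StronglyClosed.exists_mul_of_mem_sup hTL
        (show k ∈ (T : Subgroup G) ⊔ L by rw [h]; exact Subgroup.mem_top k)
      have : t ∈ K := by simpa using mul_mem hk (inv_mem (hLK hl))
      rw [hdisj ht this, one_mul]; exact hl
    · exact absurd (eq_bot_iff.2 fun l hl => Subgroup.mem_bot.2 (hdisj (h (Subgroup.mem_sup_right hl)) (hLK hl))) hL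
  refine ⟨K, hKn, ?_, hKp, hne, hdec, fun N hN => ?_, fun t ht hc => ?_⟩
  · -- a Sylow subgroup invariant under `T`
    obtain ⟨q, hq, hqK⟩ := Nat.exists_prime_and_dvd (n := Nat.card K) (fun h => hne (Subgroup.card_eq_one.1 h))
    haveI : Fact q.Prime := ⟨hq⟩
    haveI : Group.IsNilpotent (T : Subgroup G) := T.isPGroup'.isNilpotent
    obtain ⟨e, he⟩ := IsPGroup.iff_card.1 T.isPGroup'
    obtain ⟨P, hPK, hPq, hPidx, hTP⟩ := Cores.InvariantSylow.exists_invariant (A := (T : Subgroup G)) (K := K)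
      (le_top.trans (Subgroup.normalizer_eq_top_iff.2 hKn).ge)
      (by rw [he]; exact ((Fact.out : p.Prime).coprime_iff_not_dvd.2 hKp).pow_left e)
      (Or.inl inferInstance) q
    have hPne : P ≠ ⊥ := by
      rintro rfl
      rw [Subgroup.relIndex_bot_left] at hPidx
      exact hPidx hqK
    haveI : Nontrivial P := (Subgroup.nontrivial_iff_ne_bot P).2 hPne
    haveI : Nontrivial (Subgroup.center P) := hPq.center_nontrivial
    set Z := (Subgroup.center P).map P.subtype with hZ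
    have hZne : Z ≠ ⊥ := by
      rw [hZ, Ne, Subgroup.map_eq_bot_iff_of_injective _ P.subtype_injective]
      exact (Subgroup.nontrivial_iff_ne_bot _).1 inferInstance
    have hKZ : K ≤ Z := hmin Z ((Subgroup.map_subtype_le _).trans hPK) (fun t ht l hl => by
      obtain ⟨z, hz, rfl⟩ := hl
      refine ⟨⟨t * z * t⁻¹, conj_mem_of_normalizer (hTP ht) z.2⟩, Subgroup.mem_center_iff.2 fun y => ?_, rfl⟩
      apply Subtype.ext
      have h1 := congrArg Subtype.val (Subgroup.mem_center_iff.1 hz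
        ⟨t⁻¹ * (y : G) * t, conj_inv_mem_of_normalizer (hTP ht) y.2⟩)
      simp only [Subgroup.coe_mul] at h1 ⊢
      calc (y : G) * (t * z * t⁻¹) = t * (t⁻¹ * y * t * z) * t⁻¹ := by group
        _ = t * z * t⁻¹ * y := by rw [h1]; group) hZne
    intro a ha b hb
    obtain ⟨a', ha', rfl⟩ := hKZ ha
    obtain ⟨b', -, rfl⟩ := hKZ hb
    exact (congrArg Subtype.val (Subgroup.mem_center_iff.1 ha' b')).symm
  · by_cases hL : K ⊓ N = ⊥
    · refine Or.inr (hcore N hN (isPGroup_of_coprime fun n hn => Subtype.ext (Subgroup.mem_bot.1 (hL.le ⟨?_, n.2⟩))))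
      exact (Transfer.PResidual.mem_iff_coprime_of_isComplement' T K hcomp _).2 (by rwa [Subgroup.orderOf_coe])
    · exact Or.inl ((hmin (K ⊓ N) inf_le_left
        (fun t _ l hl => ⟨hKn.conj_mem l hl.1 t, hN.conj_mem l hl.2 t⟩) hL).trans inf_le_right)
  · let C : Subgroup G := (T : Subgroup G) ⊓ Subgroup.centralizer (K : Set G)
    have hCn : C.Normal := by
      refine ⟨fun c hc x => ?_⟩
      obtain ⟨s, hs, k, hk, rfl⟩ := hdec x
      have hck : k * c * k⁻¹ = c := by rw [Subgroup.mem_centralizer_iff.1 hc.2 k hk, mul_inv_cancel_right]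
      rw [show s * k * c * (s * k)⁻¹ = s * (k * c * k⁻¹) * s⁻¹ by group, hck]
      refine ⟨mul_mem (mul_mem hs hc.1) (Subgroup.inv_mem _ hs), Subgroup.mem_centralizer_iff.2 fun l hl => ?_⟩
      have h1 := Subgroup.mem_centralizer_iff.1 hc.2 _ (hKn.conj_mem l hl s⁻¹)
      calc l * (s * c * s⁻¹) = s * (s⁻¹ * l * s⁻¹⁻¹ * c) * s⁻¹ := by group
        _ = s * c * s⁻¹ * l := by rw [h1]; group
    have hC := hcore C hCn (T.isPGroup'.to_le inf_le_left)
    exact Subgroup.mem_bot.1 (hC.le ⟨ht, Subgroup.mem_centralizer_iff.2 fun k hk => (hc k hk).symm⟩)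

end Abstract

theorem exists_outer {U : Type u} [Group U] [Finite U] {p : ℕ} [Fact p.Prime] (hU : IsPGroup p U)
    {X R : Subgroup (MulAut U)} (hinn : Inn U ≤ R) (hRX : R ≤ X) (Rs : Sylow p X)
    (hRs : (Rs : Subgroup X) = R.subgroupOf X) (hnot : ¬ IsPGroup p X)
    (hmax : ∀ M : Subgroup (MulAut U), R ≤ M → M ≤ X → X ≤ M ∨ M ≤ R)
    (hcore : ∀ N : Subgroup (MulAut U), N ≤ X → (∀ x ∈ X, ∀ n ∈ N, x * n * x⁻¹ ∈ N) → IsPGroup p N → N ≤ Inn U)
    (hloc : ∀ (G : Type u) [Group G] [Finite G] (T : Sylow p G), Nat.card T ≤ Nat.card R →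
      NTriv (groupFusionSystem (T : Subgroup G)) p (centerThompsonAOf (T : Subgroup G)) →
        PTriv (groupFusionSystem (T : Subgroup G)) p) :
    ∃ K, Outer p X R K := by
  haveI := finite_mulAut U
  set I := (Inn U).subgroupOf X with hI
  haveI : I.Normal := (inferInstance : (Inn U).Normal).subgroupOf X
  let G := X ⧸ I
  let π : X →* G := QuotientGroup.mk' I
  have hπ : Function.Surjective π := QuotientGroup.mk'_surjective I
  let T : Sylow p G := Rs.mapSurjective hπ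
  have hTeq : (T : Subgroup G) = (R.subgroupOf X).map π := congrArg (Subgroup.map π) hRs
  have hIp : IsPGroup p π.ker := by
    rw [QuotientGroup.ker_mk']
    refine ((hU.of_surjective (MulAut.conj (G := U)).rangeRestrict
      (MulAut.conj (G := U)).rangeRestrict_surjective).comap_of_injective X.subtype X.subtype_injective :)
  have hIker : ∀ x : X, π x = 1 ↔ (x : MulAut U) ∈ Inn U := fun x =>
    (QuotientGroup.eq_one_iff x).trans Subgroup.mem_subgroupOf
  let lift : Subgroup G → Subgroup (MulAut U) := fun M => (M.comap π).map X.subtype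
  have mem_lift : ∀ {M : Subgroup G} {x : X}, (x : MulAut U) ∈ lift M ↔ π x ∈ M := by
    intro M x
    exact ⟨fun ⟨y, hy, e⟩ => Subtype.ext e ▸ hy, fun h => ⟨x, h, rfl⟩⟩
  have inn_le_lift : ∀ M : Subgroup G, Inn U ≤ lift M := fun M w hw =>
    ⟨⟨w, hRX (hinn hw)⟩, by rw [SetLike.mem_coe, Subgroup.mem_comap, (hIker _).2 hw]; exact one_mem M, rfl⟩
  have hR' : ∀ {x : X}, π x ∈ (T : Subgroup G) → (x : MulAut U) ∈ R := by
    intro x hx
    rw [hTeq] at hx
    obtain ⟨r, hr, e⟩ := hx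
    have h1 : π (r⁻¹ * x) = 1 := by rw [map_mul, map_inv, e, inv_mul_cancel]
    have := mul_mem (Subgroup.mem_subgroupOf.1 hr) (hinn ((hIker _).1 h1))
    simpa using this
  have hmaxG : ∀ M : Subgroup G, (T : Subgroup G) ≤ M → M = ⊤ ∨ M ≤ T := by
    intro M hM
    rcases hmax (lift M) (fun r hr => (mem_lift (x := ⟨r, hRX hr⟩)).2 (hM (by
      rw [hTeq]; exact Subgroup.mem_map_of_mem π (show (⟨r, hRX hr⟩ : X) ∈ R.subgroupOf X from hr))))
      (Subgroup.map_subtype_le _) with h | h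
    · refine Or.inl (eq_top_iff.2 fun y _ => ?_)
      obtain ⟨x, rfl⟩ := hπ y
      exact mem_lift.1 (h x.2)
    · refine Or.inr fun y hy => ?_
      obtain ⟨x, rfl⟩ := hπ y
      rw [hTeq]
      exact Subgroup.mem_map_of_mem π (show x ∈ R.subgroupOf X from h (mem_lift.2 hy))
  have hcoreG : ∀ N : Subgroup G, N.Normal → IsPGroup p N → N = ⊥ := by
    intro N hN hNp
    have h1 : lift N ≤ Inn U := by
      refine hcore _ (Subgroup.map_subtype_le _) (fun x hx => ?_) ((hNp.comap_of_ker_isPGroup π hIp).map _)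
      rintro _ ⟨n, hn, rfl⟩
      exact ⟨(⟨x, hx⟩ : X) * n * (⟨x, hx⟩ : X)⁻¹,
        (Subgroup.Normal.comap hN π).conj_mem n hn _, by simp⟩
    refine eq_bot_iff.2 fun y hy => ?_
    obtain ⟨x, rfl⟩ := hπ y
    exact Subgroup.mem_bot.2 ((hIker x).2 (h1 (mem_lift.2 hy)))
  have hTne : (T : Subgroup G) ≠ ⊤ := by
    intro h
    have hXR : X ≤ R := fun x hx => hR' (x := ⟨x, hx⟩) (h.ge (Subgroup.mem_top _))
    refine hnot (Rs.isPGroup'.of_surjective (Rs : Subgroup X).subtype fun x => ⟨⟨x, ?_⟩, rfl⟩)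
    show x ∈ (Rs : Subgroup X)
    rw [hRs]; exact hXR x.2
  have hcard : Nat.card T ≤ Nat.card R := by
    show Nat.card (T : Subgroup G) ≤ _
    rw [hTeq, ← Nat.card_congr (Subgroup.subgroupOfEquivOfLe hRX).toEquiv]
    exact Nat.card_le_card_of_surjective _ (π.subgroupMap_surjective _)
  obtain ⟨K, hKn, hKc, hKp, hKne, hdec, hKirr, hKf⟩ := exists_complement T hTne hmaxG hcoreG
    (hloc G T hcard (ntriv_group T hmaxG hcoreG))
  refine ⟨lift K, hinn, hRX, Subgroup.map_subtype_le _, inn_le_lift K, ?_, ?_, ?_, ?_, ?_, ?_, ?_⟩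
  · rintro x hx _ ⟨k, hk, rfl⟩
    exact ⟨(⟨x, hx⟩ : X) * k * (⟨x, hx⟩ : X)⁻¹, (Subgroup.Normal.comap hKn π).conj_mem k hk _, by simp⟩
  · intro x hx
    obtain ⟨t, ht, k, hk, e⟩ := hdec (π ⟨x, hx⟩)
    rw [hTeq] at ht
    obtain ⟨r, hr, rfl⟩ := ht
    refine ⟨r, hr, ((r⁻¹ * ⟨x, hx⟩ : X) : MulAut U), mem_lift.2 ?_, by simp⟩
    rw [map_mul, map_inv, e, inv_mul_cancel_left]; exact hk
  · rintro _ ⟨k, hk, rfl⟩ _ ⟨l, hl, rfl⟩
    have h1 : π (k * l * k⁻¹ * l⁻¹) = 1 := by
      rw [map_mul, map_mul, map_mul, map_inv, map_inv, hKc _ hk _ hl]; group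
    exact (hIker _).1 h1
  · rintro _ ⟨k, hk, rfl⟩
    refine ⟨Nat.card K, hKp, ?_⟩
    have h1 : π (k ^ Nat.card K) = 1 := by
      rw [map_pow]
      exact congrArg Subtype.val (pow_card_eq_one' (x := (⟨π k, hk⟩ : K)))
    exact (hIker _).1 h1
  · obtain ⟨y, hy, hy1⟩ := (Subgroup.bot_or_exists_ne_one K).resolve_left hKne
    obtain ⟨x, rfl⟩ := hπ y
    exact ⟨x, mem_lift.2 hy, fun h => hy1 ((hIker x).2 h)⟩
  · intro N hNX hNn hIN
    haveI : (N.subgroupOf X).Normal := ⟨fun n hn x => hNn x x.2 n hn⟩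
    have hmapn : ((N.subgroupOf X).map π).Normal := Subgroup.Normal.map inferInstance π hπ
    rcases hKirr _ hmapn with h | h
    · refine Or.inl ?_
      rintro _ ⟨k, hk, rfl⟩
      obtain ⟨n, hn, e⟩ := h hk
      have h1 : π (n⁻¹ * k) = 1 := by rw [map_mul, map_inv, e, inv_mul_cancel]
      have := mul_mem (Subgroup.mem_subgroupOf.1 hn) (hIN ((hIker _).1 h1))
      simpa using this
    · refine Or.inr fun n hn => ?_
      have h1 : π ⟨n, hNX hn⟩ = 1 :=
        Subgroup.mem_bot.1 (h.le (Subgroup.mem_map_of_mem π (show (⟨n, hNX hn⟩ : X) ∈ N.subgroupOf X from hn)))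
      exact (hIker _).1 h1
  · intro r hr hc
    refine (hIker ⟨r, hRX hr⟩).1 (hKf _ ?_ fun k hk => ?_)
    · rw [hTeq]; exact Subgroup.mem_map_of_mem π (show (⟨r, hRX hr⟩ : X) ∈ R.subgroupOf X from hr)
    · obtain ⟨x, rfl⟩ := hπ k
      have h1 : π ((⟨r, hRX hr⟩ : X) * x * (⟨r, hRX hr⟩ : X)⁻¹ * x⁻¹) = 1 := (hIker _).2 (hc _ (mem_lift.2 hk))
      rwa [map_mul, map_mul, map_mul, map_inv, map_inv, mul_inv_eq_one, mul_inv_eq_iff_eq_mul] at h1

end Cfsg.Agent.Lib.FusionP3.GT
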