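import Cfsg.Agent.Lib.FusionP3.GT.Reduce
import Cfsg.Agent.Lib.FusionP3.GT.OuterBuild
import Cfsg.Agent.Lib.FusionP3.SmallExponent

/-!
The Glauberman-Thompson criterion for saturated fusion systems with respect to a family of abelian subgroups.
-/

set_option autoImplicit false
set_option linter.style.haveILetI false
set_option linter.unusedSectionVars false

namespace Cfsg.Agent.Lib.FusionP3.GT

open Cfsg Cfsg.FusionSystem Cfsg.Agent.Lib.FS
open scoped commutatorElement

universe u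

variable {Ω : Type u} [Group Ω] {S : Subgroup Ω} [Finite S] {p : ℕ} [Fact p.Prime] {F : FusionSystem S}

namespace Setting

variable (h : Setting F p)
include h

theorem card_autInducedBy_lt : Nat.card (autInducedBy S F.core) < Nat.card S := by
  have h1 := card_normalizerIn S F.core
  rw [normalizerIn_eq_self h.le_normalizer_core] at h1
  rw [h1]
  haveI := finite_sub h.core_le
  haveI := finite_mulAut F.core
  refine lt_mul_of_one_lt_right Nat.card_pos ?_
  haveI := finite_sub (centralizerIn_le (S := S) F.core)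
  haveI : Nontrivial F.core := (Subgroup.nontrivial_iff_ne_bot _).2 h.core_ne_bot
  haveI : Nontrivial (Subgroup.center F.core) := (isPGroup_of_le h.pgroup h.core_le).center_nontrivial
  obtain ⟨⟨z, hz⟩, hz1⟩ := exists_ne (1 : Subgroup.center F.core)
  refine (Subgroup.one_lt_card_iff_ne_bot _).2 fun hb => hz1 (Subtype.ext (Subtype.ext ?_))
  exact Subgroup.mem_bot.1 (hb.le ⟨h.core_le z.2, fun y hy =>
    congrArg Subtype.val (Subgroup.mem_center_iff.1 hz ⟨y, hy⟩)⟩)

theorem exists_outer : ∃ K, Outer p (F.autGroup F.core) (autInducedBy S F.core) K := by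
  haveI := finite_sub h.core_le
  haveI := finite_mulAut F.core
  obtain ⟨-, R, hR⟩ := fullyAutomized_of_fullyNormalized h.pgroup h.sat h.core_fn
  refine GT.exists_outer (isPGroup_of_le h.pgroup h.core_le) (inn_le_autInducedBy h.core_le)
    (autInducedBy_le_autGroup F h.core_le) R hR h.not_isPGroup h.autInducedBy_maximal
    (fun N hNX hn hp => h.pGroup_le_inn hNX hn hp) ?_
  intro G _ _ T hT hN
  exact h.small G (T : Subgroup G) T.isPGroup' (lt_of_le_of_lt hT h.card_autInducedBy_lt) _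
    (isSaturated_group T) hN

theorem mem_core_of_inn {g : Ω} (hg : g ∈ S)
    (hi : F.core.normalizerMonoidHom ⟨g, h.le_normalizer_core hg⟩ ∈ Inn F.core) : g ∈ F.core := by
  obtain ⟨q, hq⟩ := hi
  have hc : (q : Ω)⁻¹ * g ∈ centralizerIn S F.core := by
    refine mem_centralizerIn'.2 ⟨mul_mem (Subgroup.inv_mem _ (h.core_le q.2)) hg, fun y hy => ?_⟩
    have h1 : (q : Ω) * y * (q : Ω)⁻¹ = g * y * g⁻¹ :=
      (congrArg (fun f : MulAut F.core => ((f ⟨y, hy⟩ : F.core) : Ω)) hq).trans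
        (normalizerMonoidHom_coe F.core ⟨g, h.le_normalizer_core hg⟩ ⟨y, hy⟩)
    calc (q : Ω)⁻¹ * g * y * ((q : Ω)⁻¹ * g)⁻¹ = (q : Ω)⁻¹ * (g * y * g⁻¹) * q := by group
      _ = y := by rw [← h1]; group
  simpa using mul_mem q.2 (h.centralizer_le_core hc)

theorem contradiction (hp : p ≠ 2) {𝒜 : Set (Subgroup Ω)} (hA : Fam S 𝒜) (hinv : Inv F 𝒜)
    (hN : NTriv F p (inter 𝒜)) : False := by
  set W := inter 𝒜 with hW
  have hQS := h.core_le
  haveI := finite_sub hQS
  haveI := finite_mulAut F.core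
  have hU : IsPGroup p F.core := isPGroup_of_le h.pgroup hQS
  have hSW : S ≤ Subgroup.normalizer (W : Set Ω) := hA.le_normalizer_inter hinv
  have hSQ := h.le_normalizer_core
  obtain ⟨K, hK⟩ := h.exists_outer
  set X := F.autGroup F.core
  set R := autInducedBy S F.core
  have hconjR : ∀ {g : Ω} (hg : g ∈ S), F.core.normalizerMonoidHom ⟨g, hSQ hg⟩ ∈ R := fun hg =>
    mem_autInducedBy.2 ⟨_, hg, fun _ => normalizerMonoidHom_coe F.core _ _⟩
  set W₀ := W.subgroupOf F.core with hW₀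
  have hWR : ∀ r ∈ R, ∀ w ∈ W₀, r w ∈ W₀ := by
    intro r hr w hw
    obtain ⟨g, hg, e⟩ := mem_autInducedBy.1 hr
    rw [hW₀, Subgroup.mem_subgroupOf, e]
    exact conj_mem_of_normalizer (hSW hg) hw
  have hinvW := hK.invariant hU hp hWR (fun a ha b hb => Subtype.ext (hA.inter_comm _ ha _ hb)) ?_
  · -- `W` lies in the core and is invariant
    have hWQ : W ≤ F.core := by
      intro w hw
      have hwS : w ∈ S := hA.inter_le hw
      refine h.mem_core_of_inn hwS (hK.quad_top hU hp (hconjR hwS) fun b => Subtype.ext ?_)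
      rw [normalizerMonoidHom_coe, Subgroup.coe_mul, Subgroup.coe_inv, normalizerMonoidHom_coe]
      have hd : w * (b : Ω) * w⁻¹ * (b : Ω)⁻¹ ∈ W := by
        simpa [mul_assoc] using mul_mem hw (conj_mem_of_normalizer (hSW (hQS b.2)) (Subgroup.inv_mem _ hw))
      show w * (w * (b : Ω) * w⁻¹ * (b : Ω)⁻¹) * w⁻¹ = w * (b : Ω) * w⁻¹ * (b : Ω)⁻¹
      rw [hA.inter_comm w hw _ hd, mul_inv_cancel_right]
    refine h.not_isPGroup (isPGroup_of_coprime fun α hα => Subtype.ext ?_)
    exact hN F.core hWQ (le_inf hQS (hQS.trans hSW)) α.1 α.2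
      (fun x hx => hinvW ⊤ (fun _ _ _ _ => Subgroup.mem_top _) α.1 α.2 x ⟨hx, Subgroup.mem_top _⟩)
      (by rwa [Subgroup.orderOf_coe])
  intro B hB hZ hcl hgen hquad
  set B' := B.map F.core.subtype with hB'
  have hB'S : B' ≤ S := (Subgroup.map_subtype_le B).trans hQS
  have hB'n : S ≤ Subgroup.normalizer (B' : Set Ω) := by
    intro g hg
    haveI := finite_sub hB'S
    refine mem_normalizer_of_conj_mem ?_
    rintro _ ⟨b, hb, rfl⟩
    exact ⟨_, hB _ (autInducedBy_le_autGroup F hQS (hconjR hg)) b hb, normalizerMonoidHom_coe F.core _ b⟩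
  have hZ' : ⁅B', B'⁆ ≤ W := by
    rw [hB', ← Subgroup.map_commutator]
    rintro _ ⟨z, hz, rfl⟩
    exact hZ hz
  have hcl' : ⁅⁅B', B'⁆, B'⁆ = ⊥ := by
    rw [hB', ← Subgroup.map_commutator, ← Subgroup.map_commutator, hcl, Subgroup.map_bot]
  by_cases hall : ∀ A ∈ 𝒜, B' ≤ A
  · exact fun b hb => mem_inter.2 fun A hA' => hall A hA' ⟨b, hb, rfl⟩
  exfalso
  push Not at hall
  obtain ⟨A₀, hA₀, hA₀B⟩ := hall
  obtain ⟨A, hAmem, -, hAB, hBA⟩ := hA.rep B' hB'S hB'n hcl'
    ⟨A₀, hA₀, hZ'.trans fun x hx => mem_inter.1 hx A₀ hA₀, hA₀B⟩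
  have hAQ : A ≤ F.core := by
    intro a ha
    have haS : a ∈ S := hA.le A hAmem ha
    refine h.mem_core_of_inn haS (hquad _ (hconjR haS) fun b hb => Subtype.ext ?_)
    rw [normalizerMonoidHom_coe, Subgroup.coe_mul, Subgroup.coe_inv, normalizerMonoidHom_coe]
    have hd : a * (b : Ω) * a⁻¹ * (b : Ω)⁻¹ ∈ A := by
      simpa [mul_assoc] using mul_mem ha (conj_mem_of_normalizer (hBA ⟨b, hb, rfl⟩) (Subgroup.inv_mem _ ha))
    show a * (a * (b : Ω) * a⁻¹ * (b : Ω)⁻¹) * a⁻¹ = a * (b : Ω) * a⁻¹ * (b : Ω)⁻¹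
    rw [hA.comm A hAmem a ha _ hd, mul_inv_cancel_right]
  refine hAB ?_
  rintro _ ⟨b, hb, rfl⟩
  have hle : Subgroup.closure {y | ∃ α ∈ X, ∃ w ∈ W₀ ⊓ B, α w = y} ≤ A.subgroupOf F.core := by
    refine (Subgroup.closure_le _).2 ?_
    rintro _ ⟨α, hα, w, hw, rfl⟩
    exact mem_interIn.1 (hinv F.core hQS ⟨A, hAmem, hAQ⟩ α hα w
      (mem_interIn.2 fun A' hA' _ => mem_inter.1 hw.1 A' hA')) A hAmem hAQ
  exact hle (hgen hb)

end Setting

/-- The criterion: if the normalizer of the intersection of the family is nilpotent then so is the system. -/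
theorem ptriv_of_ntriv (hp : p ≠ 2) :
    ∀ (n : ℕ) (Ω : Type u) [Group Ω] (S : Subgroup Ω) [Finite S], Nat.card S ≤ n → IsPGroup p S →
      ∀ (𝒜 : Set (Subgroup Ω)), Fam S 𝒜 → ∀ F : FusionSystem S, F.IsSaturated p → Inv F 𝒜 →
        NTriv F p (inter 𝒜) → PTriv F p := by
  intro n
  induction n using Nat.strong_induction_on with
  | _ n ih =>
  intro Ω _ S _ hn hS 𝒜 hA F hF hinv hN
  induction hk : (SmallExponent.graphs F).ncard using Nat.strong_induction_on generalizing F with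
  | _ k ihk =>
  subst hk
  by_contra hF0
  have hsmall : Small S p := by
    intro Ω' _ S' _ hS' hlt E hE hEN
    refine ih _ (lt_of_lt_of_le hlt hn) Ω' S' le_rfl hS' _ (fam_maxAbelIn hS' hp le_rfl ?_) E hE
      (inv_maxAbelIn ⟨le_rfl, fun _ _ _ hφ x => apply_mem hφ x⟩) (by rwa [inter_maxAbelIn le_rfl])
    exact fun g hg x hx => mul_mem (mul_mem hg hx) (Subgroup.inv_mem _ hg)
  have hcrit : Critical F p := by
    refine ⟨hF0, fun E hE hEF hEn => ?_⟩
    by_contra hne
    refine hEn (ihk _ ?_ E hE (hinv.of_subsystem hEF) (hN.of_subsystem hEF) rfl)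
    refine Set.ncard_lt_ncard ⟨SmallExponent.graphs_mono hEF, fun hsub => hne ?_⟩ (SmallExponent.finite_graphs F)
    exact fun P φ hφ => SmallExponent.mem_of_graph (hsub ⟨P, φ, hφ, rfl⟩)
  exact Setting.contradiction ⟨hS, hF, hsmall, hcrit⟩ hp hA hinv hN

/-- The criterion in the form of normalizer systems. -/
theorem inner_iff (hS : IsPGroup p S) (hF : F.IsSaturated p) (hp : p ≠ 2) {𝒜 : Set (Subgroup Ω)}
    (hA : Fam S 𝒜) (hinv : Inv F 𝒜) {W : Subgroup Ω} (hW : inter 𝒜 = W) :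
    (∀ P : Subgroup Ω, F.Hom P = (innerFusionSystem S).Hom P) ↔
      ∀ N : FusionSystem (normalizerIn S W), F.IsNormalizerSystem W N →
        ∀ P : Subgroup Ω, N.Hom P = (innerFusionSystem (normalizerIn S W)).Hom P := by
  subst hW
  refine ⟨fun hI N hN P => normalizerHom_inner_iff hI hA.inter_le N hN P (hA.le_normalizer_inter hinv), fun h => ?_⟩
  obtain ⟨N, hN⟩ := exists_normalizerSystem F hA.inter_le
  haveI : Finite (normalizerIn S (inter 𝒜)) := finite_sub (normalizerIn_le _)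
  have hNT : NTriv F p (inter 𝒜) :=
    NTriv.of_ptriv_normalizer hN (ptriv_of_inner (isPGroup_of_le hS (normalizerIn_le _)) (h N hN))
  exact eq_inner_of_ptriv hS hF (ptriv_of_ntriv hp _ Ω S le_rfl hS 𝒜 hA F hF hinv hNT)

end Cfsg.Agent.Lib.FusionP3.GT
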