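import Cfsg.Prelude.Def_KGroupFacts
import Cfsg.Agent.Lib.FusionP3.GT.Basic
import Cfsg.Agent.Lib.Frobenius.QuadraticAbelian
import Cfsg.Agent.Lib.PGroups.Omega
import Cfsg.Agent.Lib.LA5.HSub.Core

/-!
A group of automorphisms of a `p`-group whose outer group is `T ⋉ K` with `T` maximal and faithful on the
abelian `p'`-group `K`: the intersection with invariant subgroups of a suitable abelian subgroup is invariant.
-/

set_option autoImplicit false
set_option linter.style.haveILetI false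
set_option linter.unusedSectionVars false

namespace Cfsg.Agent.Lib.FusionP3.GT

open Cfsg
open scoped commutatorElement

variable {U : Type*} [Group U]

/-- The group of automorphisms `X` is `R K` over the inner automorphisms. -/
structure Outer (p : ℕ) (X R K : Subgroup (MulAut U)) : Prop where
  inn_le : Inn U ≤ R
  R_le : R ≤ X
  K_le : K ≤ X
  inn_le_K : Inn U ≤ K
  normal : ∀ x ∈ X, ∀ k ∈ K, x * k * x⁻¹ ∈ K
  decomp : ∀ x ∈ X, ∃ r ∈ R, ∃ k ∈ K, x = r * k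
  comm : ∀ k ∈ K, ∀ l ∈ K, k * l * k⁻¹ * l⁻¹ ∈ Inn U
  coprime : ∀ k ∈ K, ∃ n, ¬ p ∣ n ∧ k ^ n ∈ Inn U
  exists_not : ∃ k ∈ K, k ∉ Inn U
  irr : ∀ N : Subgroup (MulAut U), N ≤ X → (∀ x ∈ X, ∀ n ∈ N, x * n * x⁻¹ ∈ N) → Inn U ≤ N →
    K ≤ N ∨ N ≤ Inn U
  faithful : ∀ r ∈ R, (∀ k ∈ K, r * k * r⁻¹ * k⁻¹ ∈ Inn U) → r ∈ Inn U

/-- `[B, U] B^p`. -/
def bOne (p : ℕ) (B : Subgroup U) : Subgroup U :=
  ⁅B, (⊤ : Subgroup U)⁆ ⊔ Subgroup.closure ((fun b => b ^ p) '' (B : Set U))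

variable {p : ℕ} {B : Subgroup U}

theorem map_bOne_le (α : MulAut U) (hB : ∀ b ∈ B, α b ∈ B) : ∀ b ∈ bOne p B, α b ∈ bOne p B := by
  have : (bOne p B).map α.toMonoidHom ≤ bOne p B := by
    rw [bOne, Subgroup.map_sup, Subgroup.map_commutator, MonoidHom.map_closure]
    refine sup_le_sup (Subgroup.commutator_mono ?_ le_top) (Subgroup.closure_mono ?_)
    · rintro _ ⟨b, hb, rfl⟩; exact hB b hb
    · rintro _ ⟨_, ⟨b, hb, rfl⟩, rfl⟩
      exact ⟨α b, hB b hb, (map_pow α.toMonoidHom b p).symm⟩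
  exact fun b hb => this ⟨b, hb, rfl⟩

theorem bOne_le [B.Normal] : bOne p B ≤ B := by
  refine sup_le (Subgroup.commutator_le_left B ⊤) ((Subgroup.closure_le _).2 ?_)
  rintro _ ⟨b, hb, rfl⟩
  exact pow_mem hb p

theorem commutator_mem_bOne (q : U) {b : U} (hb : b ∈ B) : q * b * q⁻¹ * b⁻¹ ∈ bOne p B := by
  refine Subgroup.mem_sup_left ?_
  rw [Subgroup.commutator_comm]
  exact Subgroup.commutator_mem_commutator (Subgroup.mem_top q) hb

instance bOne_normal [hB : B.Normal] : (bOne p B).Normal :=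
  ⟨fun x hx g => map_bOne_le (MulAut.conj g) (fun b hb => hB.conj_mem b hb g) x hx⟩

theorem normal_of_invariant {X : Subgroup (MulAut U)} (hX : Inn U ≤ X) (hB : ∀ α ∈ X, ∀ b ∈ B, α b ∈ B) :
    B.Normal :=
  ⟨fun b hb g => hB _ (hX ⟨g, rfl⟩) b hb⟩

variable [Finite U] [Fact p.Prime]

/-- A proper subgroup, normal in `U`, of a normal subgroup `B` does not generate it with `[B, U] B^p`. -/
theorem sup_bOne_ne (hU : IsPGroup p U) [B.Normal] {N : Subgroup U} [hN : N.Normal] (hlt : N < B) :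
    N ⊔ bOne p B ≠ B := by
  obtain ⟨M, ⟨hMn, hNM, hMB⟩, hmax⟩ :=
    (Set.toFinite {M : Subgroup U | M.Normal ∧ N ≤ M ∧ M < B}).exists_maximal ⟨N, hN, le_rfl, hlt⟩
  let π := QuotientGroup.mk' M
  haveI : (B.map π).Normal := Subgroup.Normal.map inferInstance π (QuotientGroup.mk'_surjective M)
  have hne : B.map π ≠ ⊥ := fun h => hMB.not_ge (by
    rw [Subgroup.map_eq_bot_iff, QuotientGroup.ker_mk'] at h; exact h)
  have hC := PGroups.normal_inf_center_ne_bot (hU.to_quotient M) (B.map π) hne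
  obtain ⟨z, hz, hzp⟩ := PGroups.exists_orderOf_eq_prime_of_ne_bot ((hU.to_quotient M).to_subgroup _) hC
  haveI : (Subgroup.zpowers z).Normal := ⟨fun x hx g => by
    obtain ⟨k, rfl⟩ := Subgroup.mem_zpowers_iff.1 hx
    rw [show g * z ^ k = z ^ k * g from Subgroup.mem_center_iff.1 ((Subgroup.center _).zpow_mem hz.2 k) g, mul_inv_cancel_right]
    exact Subgroup.zpow_mem_zpowers z k⟩
  set M' := (Subgroup.zpowers z).comap π with hM'
  have hM'B : M' ≤ B := by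
    intro x hx
    obtain ⟨b, hb, hbx⟩ := (Subgroup.zpowers_le.2 hz.1 : Subgroup.zpowers z ≤ B.map π) hx
    have h1 : b⁻¹ * x ∈ M := QuotientGroup.eq.1 hbx
    simpa using mul_mem hb (hMB.le h1)
  have hMM' : M ≤ M' := fun x hx => by
    rw [hM', Subgroup.mem_comap]
    rw [show π x = 1 from (QuotientGroup.eq_one_iff x).2 hx]
    exact one_mem _
  have heq : M' = B := by
    refine hM'B.eq_or_lt.resolve_right fun h => ?_
    obtain ⟨w, rfl⟩ := QuotientGroup.mk'_surjective M z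
    have h1 : w ∈ M := hmax ⟨inferInstance, hNM.trans hMM', h⟩ hMM' (Subgroup.mem_zpowers (π w))
    rw [show π w = 1 from (QuotientGroup.eq_one_iff w).2 h1, orderOf_one] at hzp
    exact (Fact.out : p.Prime).one_lt.ne hzp
  intro he
  refine hMB.not_ge (he.ge.trans (sup_le hNM (sup_le (Subgroup.commutator_le.2 fun b hb g _ => ?_)
    ((Subgroup.closure_le _).2 ?_))))
  · rw [← heq] at hb
    refine (QuotientGroup.eq_one_iff _).1 ?_
    show π ⁅b, g⁆ = 1
    rw [map_commutatorElement, commutatorElement_eq_one_iff_mul_comm]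
    obtain ⟨k, hk⟩ := Subgroup.mem_zpowers_iff.1 hb
    rw [← hk]
    exact (Subgroup.mem_center_iff.1 ((Subgroup.center _).zpow_mem hz.2 k) (π g)).symm
  · rintro _ ⟨b, hb, rfl⟩
    rw [SetLike.mem_coe, ← heq] at hb
    refine (QuotientGroup.eq_one_iff _).1 ?_
    show π (b ^ p) = 1
    obtain ⟨k, hk⟩ := Subgroup.mem_zpowers_iff.1 hb
    rw [map_pow, ← hk, ← zpow_natCast, ← zpow_mul, mul_comm, zpow_mul, zpow_natCast,
      show z ^ p = 1 from hzp ▸ pow_orderOf_eq_one z, one_zpow]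

variable {X R K : Subgroup (MulAut U)}

/-- The action of `X` on `B / [B, U] B^p`. -/
theorem exists_action [B.Normal] (hB : ∀ α ∈ X, ∀ b ∈ B, α b ∈ B) :
    ∃ ρ : X →* MulAut (↥B ⧸ (bOne p B).subgroupOf B),
      ∀ (α : X) (b : B), ρ α (b : ↥B ⧸ (bOne p B).subgroupOf B) =
        ((⟨α.1 b, hB _ α.2 b b.2⟩ : B) : ↥B ⧸ (bOne p B).subgroupOf B) := by
  let f : ↥X → ↥B →* ↥B := fun α => (α.1.toMonoidHom.comp B.subtype).codRestrict B fun b => hB _ α.2 b b.2
  have hf : ∀ α, (bOne p B).subgroupOf B ≤ ((bOne p B).subgroupOf B).comap (f α) := fun α b hb =>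
    map_bOne_le (p := p) α.1 (hB _ α.2) b.1 hb
  let g : ↥X → (↥B ⧸ (bOne p B).subgroupOf B) →* (↥B ⧸ (bOne p B).subgroupOf B) := fun α =>
    QuotientGroup.map _ _ (f α) (hf α)
  have hg : ∀ α β v, g (α * β) v = g α (g β v) := fun α β v => by
    induction v using QuotientGroup.induction_on with | _ b => rfl
  have hg1 : ∀ v, g 1 v = v := fun v => by
    induction v using QuotientGroup.induction_on with | _ b => rfl
  exact ⟨{ toFun := fun α =>
            { toFun := g α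
              invFun := g α⁻¹
              left_inv := fun v => by rw [← hg, inv_mul_cancel, hg1]
              right_inv := fun v => by rw [← hg, mul_inv_cancel, hg1]
              map_mul' := map_mul (g α) }
           map_one' := MulEquiv.ext hg1
           map_mul' := fun α β => MulEquiv.ext (hg α β) }, fun _ _ => rfl⟩

theorem quad_aux (h : Outer p X R K) (hp : p ≠ 2) {V : Type*} [CommGroup V] [Finite V] (hexp : ∀ v : V, v ^ p = 1)
    (ρ : X →* MulAut V) (hinn : ∀ x : X, (x : MulAut U) ∈ Inn U → ρ x = 1)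
    (hne : ∃ k : X, (k : MulAut U) ∈ K ∧ ρ k ≠ 1) {r : X} (hr : (r : MulAut U) ∈ R)
    (hq : ∀ v, ρ r (ρ r v * v⁻¹) = ρ r v * v⁻¹) : (r : MulAut U) ∈ Inn U := by
  set N := ρ.ker.map X.subtype with hN
  have hNI : N ≤ Inn U := by
    refine (h.irr N (Subgroup.map_subtype_le _) ?_ ?_).resolve_left fun hKN => ?_
    · rintro x hx _ ⟨n, hn, rfl⟩
      exact ⟨(⟨x, hx⟩ : X) * n * (⟨x, hx⟩ : X)⁻¹, ρ.normal_ker.conj_mem n hn _, by simp⟩
    · intro w hw
      exact ⟨⟨w, h.R_le (h.inn_le hw)⟩, hinn _ hw, rfl⟩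
    · obtain ⟨k, hk, hk1⟩ := hne
      obtain ⟨k', hk', e⟩ := hKN hk
      exact hk1 ((congrArg ρ (Subtype.ext e.symm)).trans hk')
  -- the image of `K` is an abelian group of order prime to `p`
  set K' := (K.subgroupOf X).map ρ with hK'
  have hK'c : IsMulCommutative K' := by
    refine ⟨⟨?_⟩⟩
    rintro ⟨_, k, hk, rfl⟩ ⟨_, l, hl, rfl⟩
    refine Subtype.ext ?_
    have h2 : ρ (k * l * k⁻¹ * l⁻¹) = 1 := hinn _ (h.comm _ hk _ hl)
    rw [map_mul, map_mul, map_mul, map_inv, map_inv, mul_inv_eq_one, mul_inv_eq_iff_eq_mul] at h2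
    exact h2
  haveI : Finite (MulAut V) := finite_mulAut _
  have hK'p : (Nat.card K').Coprime p := by
    refine ((Fact.out : p.Prime).coprime_iff_not_dvd.2 fun hdvd => ?_).symm
    obtain ⟨⟨_, k, hk, rfl⟩, hord⟩ := exists_prime_orderOf_dvd_card' p hdvd
    have hord' : orderOf (ρ k) = p := (Subgroup.orderOf_coe _).trans hord
    obtain ⟨n, hn, hkn⟩ := h.coprime _ hk
    have h1 : ρ k ^ n = 1 := by rw [← map_pow]; exact hinn _ (by simpa using hkn)
    exact hn (hord' ▸ orderOf_dvd_of_pow_eq_one h1)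
  have hconj : ∀ y : X, ∀ x ∈ K', ρ y * x * (ρ y)⁻¹ ∈ K' := by
    rintro y _ ⟨k, hk, rfl⟩
    exact ⟨y * k * y⁻¹, h.normal _ y.2 _ hk, by simp⟩
  have hcomm := Frobenius.QuadraticAbelian.commute_of_quadratic hp hexp (ρ r) K' hK'c hK'p (hconj _)
    (fun x hx => by simpa using hconj r⁻¹ x hx) hq
  refine h.faithful _ hr fun k hk => hNI ?_
  refine ⟨r * (⟨k, h.K_le hk⟩ : X) * r⁻¹ * (⟨k, h.K_le hk⟩ : X)⁻¹, ?_, by simp⟩
  rw [SetLike.mem_coe, MonoidHom.mem_ker, map_mul, map_mul, map_mul, map_inv, map_inv, mul_inv_eq_one,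
    mul_inv_eq_iff_eq_mul]
  exact hcomm _ ⟨_, hk, rfl⟩

/-- An element of `R` acting quadratically on `B / [B, U] B^p` is inner, unless `K` acts trivially there. -/
theorem Outer.quad (h : Outer p X R K) (hp : p ≠ 2) (hB : ∀ α ∈ X, ∀ b ∈ B, α b ∈ B)
    (hne : ∃ k ∈ K, ∃ b ∈ B, k b * b⁻¹ ∉ bOne p B) {r : MulAut U} (hr : r ∈ R)
    (hq : ∀ b ∈ B, r (r b * b⁻¹) * (r b * b⁻¹)⁻¹ ∈ bOne p B) : r ∈ Inn U := by
  haveI := normal_of_invariant (h.inn_le.trans h.R_le) hB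
  obtain ⟨ρ, hρ⟩ := exists_action (p := p) (X := X) hB
  have hN : (bOne p B).Normal := inferInstance
  have hone : ∀ a b : B, ((a : ↥B ⧸ (bOne p B).subgroupOf B) = b) ↔ (a : U) * (b : U)⁻¹ ∈ bOne p B := by
    intro a b
    rw [eq_comm, QuotientGroup.eq, Subgroup.mem_subgroupOf]
    exact ⟨fun h => hN.mem_comm h, fun h => hN.mem_comm h⟩
  letI : CommGroup (↥B ⧸ (bOne p B).subgroupOf B) :=
    { (inferInstance : Group (↥B ⧸ (bOne p B).subgroupOf B)) with
      mul_comm := fun a b => by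
        induction a using QuotientGroup.induction_on with | _ a => ?_
        induction b using QuotientGroup.induction_on with | _ b => ?_
        refine (hone (a * b) (b * a)).2 ?_
        have := commutator_mem_bOne (p := p) (B := B) (a : U) b.2
        simpa [mul_assoc] using this }
  refine quad_aux h hp ?_ ρ ?_ ?_ (r := ⟨r, h.R_le hr⟩) hr ?_
  · intro v
    induction v using QuotientGroup.induction_on with | _ b => ?_
    refine (QuotientGroup.eq_one_iff (b ^ p)).2 (Subgroup.mem_subgroupOf.2 (Subgroup.mem_sup_right ?_))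
    exact Subgroup.subset_closure ⟨b, b.2, rfl⟩
  · intro x hx
    obtain ⟨q, hq'⟩ := hx
    refine MulEquiv.ext fun v => ?_
    induction v using QuotientGroup.induction_on with | _ b => ?_
    rw [hρ]
    refine (hone _ b).2 ?_
    simp only [← hq']
    exact commutator_mem_bOne q b.2
  · obtain ⟨k, hk, b, hb, hkb⟩ := hne
    refine ⟨⟨k, h.K_le hk⟩, hk, fun hk1 => hkb ?_⟩
    have h1 := hρ ⟨k, h.K_le hk⟩ ⟨b, hb⟩
    rw [hk1] at h1
    exact (hone _ _).1 h1.symm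
  · intro v
    induction v using QuotientGroup.induction_on with | _ b => ?_
    rw [hρ, ← QuotientGroup.mk_inv, ← QuotientGroup.mk_mul, hρ]
    exact (hone _ _).2 (hq b b.2)

/-- If `K` is trivial on `B / [B, U] B^p` then `B` is the part of `W` in it, if that part generates it. -/
theorem Outer.le_of_trivial (h : Outer p X R K) (hU : IsPGroup p U) (hB : ∀ α ∈ X, ∀ b ∈ B, α b ∈ B)
    {W : Subgroup U} (hW : ∀ r ∈ R, ∀ w ∈ W, r w ∈ W)
    (hgen : B ≤ Subgroup.closure {y | ∃ α ∈ X, ∃ w ∈ W ⊓ B, α w = y})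
    (htriv : ∀ k ∈ K, ∀ b ∈ B, k b * b⁻¹ ∈ bOne p B) : B ≤ W := by
  haveI := normal_of_invariant (h.inn_le.trans h.R_le) hB
  set N := W ⊓ B with hN
  have hNR : ∀ r ∈ R, ∀ w ∈ N, r w ∈ N := fun r hr w hw => ⟨hW r hr w hw.1, hB r (h.R_le hr) w hw.2⟩
  haveI : N.Normal := ⟨fun w hw g => hNR _ (h.inn_le ⟨g, rfl⟩) w hw⟩
  have hle : B ≤ N ⊔ bOne p B := by
    refine hgen.trans ((Subgroup.closure_le _).2 ?_)
    rintro _ ⟨α, hα, w, hw, rfl⟩
    obtain ⟨r, hr, k, hk, rfl⟩ := h.decomp α hα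
    show r (k w) ∈ _
    rw [show k w = k w * w⁻¹ * w by group, map_mul]
    exact mul_mem (Subgroup.mem_sup_right (map_bOne_le r (hB r (h.R_le hr)) _ (htriv k hk w hw.2)))
      (Subgroup.mem_sup_left (hNR r hr w hw))
  rcases (inf_le_right : N ≤ B).eq_or_lt with heq | hlt
  · exact heq.ge.trans inf_le_left
  · exact absurd (le_antisymm (sup_le inf_le_right bOne_le) hle) (sup_bOne_ne hU hlt)

theorem Outer.exists_moved_top (h : Outer p X R K) (hU : IsPGroup p U) :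
    ∃ k ∈ K, ∃ b ∈ (⊤ : Subgroup U), k b * b⁻¹ ∉ bOne p (⊤ : Subgroup U) := by
  obtain ⟨k, hk, hki⟩ := h.exists_not
  by_contra hcon
  push Not at hcon
  haveI := finite_mulAut U
  obtain ⟨j, hj⟩ := exists_pow_coprime (p := p) k
  have hF : bOne p (⊤ : Subgroup U) ≤ frattini U := by
    refine sup_le (PGroups.commutator_le_frattini hU) ((Subgroup.closure_le _).2 ?_)
    rintro _ ⟨b, -, rfl⟩
    exact PGroups.pow_mem_frattini hU b
  have h1 : k ^ p ^ j = 1 := LA5.HSub.Core.eq_one_of_mod _ hU hj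
    (fun u => hcon _ (pow_mem hk _) u (Subgroup.mem_top u)) (Or.inr hF)
  obtain ⟨n, hn, hkn⟩ := h.coprime k hk
  obtain ⟨a, b, hab⟩ : IsCoprime ((p ^ j : ℕ) : ℤ) (n : ℤ) :=
    Int.isCoprime_iff_nat_coprime.2 (by simpa using ((Fact.out : p.Prime).coprime_iff_not_dvd.2 hn).pow_left j)
  refine hki ?_
  rw [← zpow_one k, ← hab, zpow_add, mul_comm a, mul_comm b, zpow_mul, zpow_mul, zpow_natCast, zpow_natCast, h1,
    one_zpow, one_mul]
  exact zpow_mem hkn b

theorem Outer.quad_top (h : Outer p X R K) (hU : IsPGroup p U) (hp : p ≠ 2) {r : MulAut U} (hr : r ∈ R)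
    (hq : ∀ b, r (r b * b⁻¹) = r b * b⁻¹) : r ∈ Inn U :=
  h.quad hp (fun _ _ _ _ => Subgroup.mem_top _) (h.exists_moved_top hU) hr fun b _ => by
    rw [hq b, mul_inv_cancel]; exact one_mem _

/-- The invariance of `W ∩ B`, given the behaviour on subgroups `B` of class two with derived group in `W`. -/
theorem Outer.invariant (h : Outer p X R K) (hU : IsPGroup p U) (hp : p ≠ 2) {W : Subgroup U}
    (hW : ∀ r ∈ R, ∀ w ∈ W, r w ∈ W) (hWc : ∀ a ∈ W, ∀ b ∈ W, a * b = b * a)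
    (hmem : ∀ B : Subgroup U, (∀ α ∈ X, ∀ b ∈ B, α b ∈ B) → ⁅B, B⁆ ≤ W → ⁅⁅B, B⁆, B⁆ = ⊥ →
      B ≤ Subgroup.closure {y | ∃ α ∈ X, ∃ w ∈ W ⊓ B, α w = y} →
      (∀ r ∈ R, (∀ b ∈ B, r (r b * b⁻¹) = r b * b⁻¹) → r ∈ Inn U) → B ≤ W) :
    ∀ B : Subgroup U, (∀ α ∈ X, ∀ b ∈ B, α b ∈ B) → ∀ α ∈ X, ∀ w ∈ W ⊓ B, α w ∈ W := by
  intro B
  induction hn : Nat.card B using Nat.strong_induction_on generalizing B with
  | _ n ih =>
  intro hB
  subst hn
  set C := Subgroup.closure {y | ∃ α ∈ X, ∃ w ∈ W ⊓ B, α w = y} with hC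
  have hCB : C ≤ B := (Subgroup.closure_le _).2 fun _ ⟨α, hα, w, hw, e⟩ => e ▸ hB α hα w hw.2
  have hCi : ∀ α ∈ X, ∀ c ∈ C, α c ∈ C := by
    intro α hα c hc
    have hle : C.map α.toMonoidHom ≤ C := by
      rw [hC, MonoidHom.map_closure]
      refine Subgroup.closure_mono ?_
      rintro _ ⟨_, ⟨β, hβ, w, hw, rfl⟩, rfl⟩
      exact ⟨α * β, mul_mem hα hβ, w, hw, rfl⟩
    exact hle ⟨c, hc, rfl⟩
  have hsub : W ⊓ B ≤ W ⊓ C := fun w hw =>
    ⟨hw.1, Subgroup.subset_closure ⟨1, one_mem _, w, hw, rfl⟩⟩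
  rcases hCB.lt_or_eq with hlt | heq
  · exact fun α hα w hw =>
      ih _ (Set.ncard_lt_ncard (SetLike.coe_ssubset_coe.2 hlt) (Set.toFinite _)) C rfl hCi α hα w (hsub hw)
  haveI := normal_of_invariant (h.inn_le.trans h.R_le) hB
  rcases eq_or_ne B ⊥ with rfl | hne
  · intro α _ w hw
    rw [Subgroup.mem_bot.1 hw.2, map_one]
    exact one_mem _
  haveI : Group.IsNilpotent U := hU.isNilpotent
  have hZlt : ⁅B, B⁆ < B := by
    exact Group.IsSolvable.commutator_lt_of_ne_bot hne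
  have hZi : ∀ α ∈ X, ∀ z ∈ ⁅B, B⁆, α z ∈ ⁅B, B⁆ := by
    intro α hα z hz
    have hle : ⁅B, B⁆.map α.toMonoidHom ≤ ⁅B, B⁆ := by
      rw [Subgroup.map_commutator]
      refine Subgroup.commutator_mono ?_ ?_ <;> (rintro _ ⟨b, hb, rfl⟩; exact hB α hα b hb)
    exact hle ⟨z, hz, rfl⟩
  have hM := ih _ (Set.ncard_lt_ncard (SetLike.coe_ssubset_coe.2 hZlt) (Set.toFinite _)) _ rfl hZi
  have hWn : W.Normal := ⟨fun w hw g => hW _ (h.inn_le ⟨g, rfl⟩) w hw⟩
  haveI : (W ⊓ ⁅B, B⁆).Normal := inferInstance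
  have hZW : ⁅B, B⁆ ≤ W := by
    suffices hle : ⁅B, B⁆ ≤ W ⊓ ⁅B, B⁆ from hle.trans inf_le_left
    have hmod : ∀ y ∈ B, ∀ x ∈ B, ⁅x, y⁆ ∈ W ⊓ ⁅B, B⁆ := by
      intro y hy x hx
      rw [← heq] at hy
      refine Subgroup.closure_induction (p := fun y _ => ⁅x, y⁆ ∈ W ⊓ ⁅B, B⁆) ?_ ?_ ?_ ?_ hy
      · rintro _ ⟨α, hα, w, hw, rfl⟩
        have h1 : ⁅α⁻¹ x, w⁆ ∈ W ⊓ ⁅B, B⁆ := by
          refine ⟨?_, Subgroup.commutator_mem_commutator (hB _ (inv_mem hα) x hx) hw.2⟩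
          rw [commutatorElement_def]
          exact mul_mem (hWn.conj_mem w hw.1 _) (W.inv_mem hw.1)
        have h2 : α ⁅α⁻¹ x, w⁆ = ⁅x, α w⁆ := by
          simp [commutatorElement_def]
        rw [← h2]
        exact ⟨hM α hα _ h1, hZi α hα _ h1.2⟩
      · simp
      · intro a b _ _ ha hb
        have e : ⁅x, a * b⁆ = ⁅x, a⁆ * (a * ⁅x, b⁆ * a⁻¹) := by simp only [commutatorElement_def]; group
        rw [e]
        exact mul_mem ha (Subgroup.Normal.conj_mem inferInstance _ hb a)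
      · intro a _ ha
        have e : ⁅x, a⁻¹⁆ = a⁻¹ * ⁅x, a⁆⁻¹ * a := by simp only [commutatorElement_def]; group
        rw [e]
        simpa using Subgroup.Normal.conj_mem inferInstance _ (inv_mem ha) a⁻¹
    exact Subgroup.commutator_le.2 fun x hx y hy => hmod y hy x hx
  have hcl : ⁅⁅B, B⁆, B⁆ = ⊥ := by
    rw [Subgroup.commutator_eq_bot_iff_le_centralizer, Subgroup.le_centralizer_iff, ← heq, hC,
      Subgroup.closure_le]
    rintro _ ⟨α, hα, w, hw, rfl⟩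
    rw [SetLike.mem_coe, Subgroup.mem_centralizer_iff]
    intro z hz
    rw [← hC, heq] at hz
    have h1 := congrArg α (hWc _ (hZW (hZi _ (inv_mem hα) z hz)) w hw.1)
    simpa [MulAut.apply_inv_self] using h1
  have hBW : B ≤ W := by
    by_cases hK : ∀ k ∈ K, ∀ b ∈ B, k b * b⁻¹ ∈ bOne p B
    · exact h.le_of_trivial hU hB hW heq.ge hK
    · push Not at hK
      exact hmem B hB hZW hcl heq.ge fun r hr hr2 =>
        h.quad hp hB hK hr fun b hb => by rw [hr2 b hb, mul_inv_cancel]; exact one_mem _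
  exact fun α hα w hw => hBW (hB α hα w hw.2)

end Cfsg.Agent.Lib.FusionP3.GT
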