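import Cfsg.Agent.Lib.FusionP3.GT.Family
import Cfsg.Agent.Lib.FusionP3.FactorHyp
import Cfsg.Agent.Lib.FusionSystem.FactorSaturated
import Cfsg.Agent.Lib.FusionAlperin.Join
import Cfsg.Agent.Lib.FusionP3.KSystemControl

/-!
Reductions for a minimal counterexample to a Glauberman-Thompson criterion: a normal centric subgroup with an
automorphism group that is not a `p`-group and in which the automorphisms from `S` are maximal.
-/

set_option autoImplicit false
set_option linter.style.haveILetI false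
set_option linter.unusedSectionVars false

namespace Cfsg.Agent.Lib.FusionP3.GT

open Cfsg Cfsg.FusionSystem Cfsg.Agent.Lib.FS Cfsg.Agent.Lib.FusionP3.Induction

universe u

variable {Ω : Type u} [Group Ω] {S : Subgroup Ω} {p : ℕ}

/-- The criterion holds for all systems over smaller groups. -/
def Small (S : Subgroup Ω) (p : ℕ) : Prop :=
  ∀ (Ω' : Type u) [Group Ω'] (S' : Subgroup Ω') [Finite S'], IsPGroup p S' → Nat.card S' < Nat.card S →
    ∀ E : FusionSystem S', E.IsSaturated p → NTriv E p (centerThompsonAOf S') → PTriv E p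

/-- Not nilpotent, and contained in every non-nilpotent saturated subsystem over the same group. -/
def Critical (F : FusionSystem S) (p : ℕ) : Prop :=
  ¬ PTriv F p ∧ ∀ E : FusionSystem S, E.IsSaturated p → E.IsSubsystemOf F → ¬ PTriv E p → F.IsSubsystemOf E

variable [Finite S] [Fact p.Prime] {F : FusionSystem S}

theorem isFullyNormalized_of_le_normalizer {U : Subgroup Ω} (hU : U ≤ S)
    (hn : S ≤ Subgroup.normalizer (U : Set Ω)) : F.IsFullyNormalized U := by
  refine ⟨hU, fun R _ => ?_⟩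
  haveI := finite_sub (normalizerIn_le (S := S) U)
  exact Subgroup.card_le_of_le (le_inf (normalizerIn_le R) ((normalizerIn_le R).trans hn))

theorem normalizerIn_eq_self {U : Subgroup Ω} (hn : S ≤ Subgroup.normalizer (U : Set Ω)) : normalizerIn S U = S :=
  inf_eq_left.2 hn

theorem hyperfocal_eq_bot_of_ptriv (h : PTriv F p) : F.hyperfocalSubgroup p = ⊥ := by
  refine le_bot_iff.1 ((Subgroup.closure_le _).2 ?_)
  rintro _ ⟨P, α, x, hP, hα, rfl⟩
  have hbot : pResidual p (F.autGroup P) ≤ ⊥ := Transfer.PResidual.pResidual_le_iff.2 fun g hg =>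
    Subgroup.mem_bot.2 (Subtype.ext (h P hP g g.2 (by rwa [Subgroup.orderOf_coe])))
  simp [Subgroup.mem_bot.1 (hbot hα)]

theorem isNormal_of_not_ntriv (hS : IsPGroup p S) (hF : F.IsSaturated p) (hc : Critical F p) {U : Subgroup Ω}
    (hU : U ≤ S) (hn : S ≤ Subgroup.normalizer (U : Set Ω)) (h : ¬ NTriv F p U) : F.IsNormal U := by
  have hT : S = kNorm S U.subtype (⊤ : Subgroup (MulAut U)) :=
    ((kNorm_top S U).trans (normalizerIn_eq_self hn)).symm
  obtain ⟨E, hE⟩ := exists_kSystem F hU ⊤ hT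
  have hfn : F.IsFullyNormalized U := isFullyNormalized_of_le_normalizer hU hn
  have hEs : E.IsSaturated p := kSystem_isSaturated hS hF (receptive_of_fullyNormalized hS hF hfn)
    (by rw [inf_top_eq, inf_top_eq]; exact sylowIn_of_isFullyAutomized (fullyAutomized_of_fullyNormalized hS hF hfn))
    hT hE
  have hnE : ¬ PTriv E p := fun hP => by
    obtain ⟨N, hN⟩ := exists_normalizerSystem F hU
    exact h (NTriv.of_ptriv_normalizer hN (hP.congr (fun P => by rw [hE, hN P, normalizerHom_eq])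
      (normalizerIn_eq_self hn).symm))
  refine ⟨hU, fun P φ hφ => ?_⟩
  have h1 := hc.2 E hEs (fun P φ hφ => by rw [hE] at hφ; exact hφ.1) hnE P hφ
  rw [hE, ← normalizerHom_eq] at h1
  exact h1.2.2.2

theorem exists_normal_ne_bot (hS : IsPGroup p S) (hF : F.IsSaturated p) (hsmall : Small S p)
    (hc : Critical F p) : ∃ U : Subgroup Ω, U ≠ ⊥ ∧ F.IsNormal U := by
  classical
  set 𝒰 := {U : Subgroup Ω | F.IsFullyNormalized U ∧ U ≠ ⊥ ∧ ¬ NTriv F p U}
  have hfin : 𝒰.Finite := (FusionAlperin.Join.finite_subgroups_le S).subset fun U hU => hU.1.1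
  have hne : 𝒰.Nonempty := by
    obtain ⟨hF0, -⟩ := hc
    simp only [PTriv] at hF0
    push Not at hF0
    obtain ⟨P, hP, α, hα, hco, hα1⟩ := hF0
    obtain ⟨Q, ⟨φ, hφ, hr⟩, hQ⟩ := exists_isFullyNormalized F hP
    have hβ1 : MulAut.congr (homEquiv hφ hr) α ≠ 1 := fun h =>
      hα1 ((MulAut.congr (homEquiv hφ hr)).injective (h.trans (map_one _).symm))
    refine ⟨Q, hQ, ?_, fun h => hβ1 (h Q le_rfl (le_normalizerIn hQ.1) _ (congr_mem_autGroup hφ hr hα)
      (fun x _ => (MulAut.congr (homEquiv hφ hr) α x).2) (by rw [MulEquiv.orderOf_eq]; exact hco))⟩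
    rintro rfl
    exact hβ1 (MulEquiv.ext fun x => Subsingleton.elim _ _)
  obtain ⟨U, ⟨hUfn, hU0, hUN⟩, hmax⟩ :=
    Set.exists_max_image 𝒰 (fun U => Nat.card (normalizerIn S U)) hfin hne
  by_cases hn : S ≤ Subgroup.normalizer (U : Set Ω)
  · exact ⟨U, hU0, isNormal_of_not_ntriv hS hF hc hUfn.1 hn hUN⟩
  exfalso
  set T := normalizerIn S U with hT
  have hTS : T < S := lt_of_le_of_ne (normalizerIn_le U) fun h => hn (h.ge.trans inf_le_right)
  haveI := finite_sub hTS.le
  obtain ⟨N, hN⟩ := exists_normalizerSystem F hUfn.1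
  set V := centerThompsonAOf T with hV
  have hVN : ¬ NTriv N p V := fun h => hUN (NTriv.of_ptriv_normalizer hN (hsmall Ω T
    (isPGroup_of_le hS hTS.le) (Set.ncard_lt_ncard (SetLike.coe_ssubset_coe.2 hTS) (Set.toFinite _))
    N (normalizerSystem_isSaturated hS hF hUfn hN) h))
  have hVT : V ≤ T := centerThompsonAOf_le hTS.le
  have hVS : V ≤ S := hVT.trans hTS.le
  have hVF : ¬ NTriv F p V := fun h => hVN fun D hVD hD α hα hpres hco =>
    h D hVD (hD.trans (inf_le_inf_right _ hTS.le)) α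
      (autGroup_mono (fun P φ hφ => by rw [hN P] at hφ; exact hφ.1) (hD.trans (normalizerIn_le V)) hα) hpres hco
  have hTne : T ≠ ⊥ := fun h => hU0 (le_bot_iff.1 ((le_normalizerIn hUfn.1).trans h.le))
  have hV0 : V ≠ ⊥ := centerThompsonAOf_ne_bot hS hTS.le hTne
  -- the normalizer of `V` is larger
  have hlt : T < normalizerIn S V := by
    refine (lt_normalizerIn hS hTS).trans_le fun g hg => ⟨hg.1, ?_⟩
    haveI := finite_sub hVS
    exact mem_normalizer_of_conj_mem fun x hx => conj_mem_centerThompsonAOf hTS.le hg.2 hx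
  obtain ⟨V', hVV', hV'fn⟩ := exists_isFullyNormalized F hVS
  obtain ⟨ψ, hψ, hm, hVψ⟩ := exists_normalizer_map hS hF hV'fn hVV'
  have hV'0 : V' ≠ ⊥ := by
    rintro rfl
    have h1 := isConj_card hVV'
    rw [Subgroup.card_bot] at h1
    exact hV0 (Subgroup.card_eq_one.1 h1.symm)
  have hle := hmax V' ⟨hV'fn, hV'0, fun h => hVF (h.of_map hψ hm hVψ)⟩
  haveI := finite_sub (normalizerIn_le (S := S) V')
  haveI := finite_sub (normalizerIn_le (S := S) V)
  exact absurd ((card_le_of_hom hψ hm).trans hle)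
    (not_le.2 (Set.ncard_lt_ncard (SetLike.coe_ssubset_coe.2 hlt) (Set.toFinite _)))

/-- The setting of a minimal counterexample. -/
structure Setting (F : FusionSystem S) (p : ℕ) : Prop where
  pgroup : IsPGroup p S
  sat : F.IsSaturated p
  small : Small S p
  crit : Critical F p

namespace Setting

variable (h : Setting F p)
include h

theorem core_le : F.core ≤ S := (FusionAlperin.Join.isNormal_core F).1

theorem le_normalizer_core : S ≤ Subgroup.normalizer (F.core : Set Ω) :=
  isNormal_le_normalizer (FusionAlperin.Join.isNormal_core F)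

theorem core_ne_bot : F.core ≠ ⊥ := fun he => by
  obtain ⟨U, hU0, hU⟩ := exists_normal_ne_bot h.pgroup h.sat h.small h.crit
  exact hU0 (le_bot_iff.1 ((le_sSup hU : U ≤ F.core).trans he.le))

theorem core_fn : F.IsFullyNormalized F.core :=
  isFullyNormalized_of_le_normalizer h.core_le h.le_normalizer_core

theorem preserve_core {P : Subgroup Ω} (hP : P ≤ S) {α : MulAut P} (hα : α ∈ F.autGroup P) :
    α ∈ preserve F.core P := fun x =>
  autGroup_mem_iff_of_stronglyClosed (isNormal_stronglyClosed (FusionAlperin.Join.isNormal_core F)) hP hα x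

set_option maxHeartbeats 800000 in
theorem not_isPGroup : ¬ IsPGroup p (F.autGroup F.core) := by
  intro hX
  have hS := h.pgroup
  have hF := h.sat
  set Q := F.core with hQ
  haveI := finite_sub h.core_le
  have hQsc : F.StronglyClosed Q := isNormal_stronglyClosed (FusionAlperin.Join.isNormal_core F)
  haveI : (Q.subgroupOf S).Normal := ⟨fun x hx g =>
    Subgroup.mem_subgroupOf.2 (conj_mem_of_normalizer (h.le_normalizer_core g.2) (Subgroup.mem_subgroupOf.1 hx))⟩
  let Ω' := S ⧸ Q.subgroupOf S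
  let θ : S →* Ω' := QuotientGroup.mk' _
  have hker : ∀ s : S, θ s = 1 ↔ (s : Ω) ∈ Q := fun s =>
    (QuotientGroup.eq_one_iff s).trans Subgroup.mem_subgroupOf
  have hr : θ.range = ⊤ := MonoidHom.range_eq_top.2 (QuotientGroup.mk'_surjective _)
  haveI : Finite Ω' := Finite.of_surjective θ (QuotientGroup.mk'_surjective _)
  obtain ⟨E, hE⟩ := exists_factorSystem hQsc θ hker hr
  have hEs := factor_isSaturated hS hF hQsc hE
  have hS' : IsPGroup p (⊤ : Subgroup Ω') := isPGroup_image hS hr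
  -- `E` is not nilpotent
  have hEn : ¬ PTriv E p := fun hE0 => h.crit.1 <| by
    have hhyp : F.hyperfocalSubgroup p ≤ Q := by
      intro y hy
      have h1 : θ ⟨y, Tate.hyperfocal_le F p hy⟩ ∈ E.hyperfocalSubgroup p := by
        rw [FactorHyp.hyperfocal_factor hS hF hQsc hE]
        exact Subgroup.mem_map_of_mem θ (show (⟨y, Tate.hyperfocal_le F p hy⟩ : S) ∈ _ from hy)
      rw [hyperfocal_eq_bot_of_ptriv hE0, Subgroup.mem_bot] at h1
      exact (hker _).1 h1
    intro P hP α hα hco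
    obtain ⟨φ, hφ, -, he⟩ := exists_hom_of_aut hP hα
    obtain ⟨ψ, hψ, hψP, hψQ⟩ := (FusionAlperin.Join.isNormal_core F).2 P φ hφ
    have hPQ : P ⊔ Q ≤ S := src_le hψ
    haveI := finite_sub hPQ
    have hval : ∀ x, ψ x ∈ P ⊔ Q := by
      intro x
      obtain ⟨u, hu, t, ht, e⟩ := StronglyClosed.exists_mul_of_mem_sup
        (fun u hu t ht => conj_mem_of_normalizer (h.le_normalizer_core (hP hu)) ht) x.2
      rw [show x = Subgroup.inclusion le_sup_left ⟨u, hu⟩ * Subgroup.inclusion le_sup_right ⟨t, ht⟩ from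
        Subtype.ext e, map_mul, hψP, he]
      exact mul_mem (Subgroup.mem_sup_left (α _).2)
        (Subgroup.mem_sup_right (hψQ.le ⟨_, Subgroup.mem_subgroupOf.2 ht, rfl⟩))
    have hrange := range_eq_of_mem hψ hval le_rfl
    set γ := homEquiv hψ hrange
    have hγ : γ ∈ F.autGroup (P ⊔ Q) := homEquiv_mem_autGroup hψ hrange
    have hγP : γ ∈ preserve P (P ⊔ Q) := fun x => mem_iff_apply_mem (fun y hy => by
      rw [homEquiv_coe, show y = Subgroup.inclusion le_sup_left ⟨(y : Ω), hy⟩ from rfl, hψP, he]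
      exact (α _).2) x
    haveI := finite_mulAut ↥(P ⊔ Q)
    obtain ⟨k, hk⟩ := exists_pow_coprime (p := p) γ
    set δ := γ ^ p ^ k
    have hδ : δ ∈ F.autGroup (P ⊔ Q) := pow_mem hγ _
    have hfix : ∀ x : ↥(P ⊔ Q), (x : Ω) ∈ Q → δ x = x := by
      have h1 : res le_sup_right ⟨δ, h.preserve_core hPQ hδ⟩ = 1 :=
        eq_one_of_coprime_isPGroup hX (res_mem_autGroup le_sup_right hPQ hδ)
          (coprime_map _ (by rw [← Subgroup.orderOf_coe]; exact hk))
      intro x hx
      exact Subtype.ext (congrArg (fun f : MulAut Q => ((f ⟨x, hx⟩ : Q) : Ω)) h1)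
    have hδ1 : δ = 1 := by
      refine MulEquiv.ext fun x => ?_
      have hy : ∀ y : ↥(P ⊔ Q), (y : Ω)⁻¹ * (δ y : ↥(P ⊔ Q)) ∈ Q := fun y => hhyp
        (Tate.hyperfocal_gen_mem hPQ (α := ⟨δ, hδ⟩)
          (Transfer.PResidual.mem_pResidual (by rw [← Subgroup.orderOf_coe]; exact hk)) y)
      have h1 := Tate.eq_one_of_coprime (MonoidHom.id _) δ hk (orderOf_pos δ)
        (fun y => by
          obtain ⟨j, hj⟩ := isPGroup_of_le hS hPQ (y⁻¹ * δ y)
          exact ⟨j, hj⟩)
        (fun y => hfix _ (by rw [Subgroup.coe_mul, Subgroup.coe_inv]; exact hy y)) x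
      exact (inv_mul_eq_one.1 h1).symm
    refine eq_one_of_pow_coprime hco (k := k) ?_
    have hres : res le_sup_left ⟨γ, hγP⟩ = α := MulEquiv.ext fun x => Subtype.ext ((hψP x).trans (he x))
    rw [← hres, ← map_pow, show (⟨γ, hγP⟩ : preserve P (P ⊔ Q)) ^ p ^ k = 1 from Subtype.ext (by simpa using hδ1),
      map_one]
  -- the preimage of `Z(J)` of the quotient
  have hS'0 : (⊤ : Subgroup Ω') ≠ ⊥ := fun h0 => hEn fun P _ α _ _ => MulEquiv.ext fun x => Subtype.ext
    ((Subgroup.mem_bot.1 (h0.le (Subgroup.mem_top _))).trans (Subgroup.mem_bot.1 (h0.le (Subgroup.mem_top _))).symm)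
  have hcard : Nat.card (⊤ : Subgroup Ω') < Nat.card S := by
    rw [Subgroup.card_top, Subgroup.card_eq_card_quotient_mul_card_subgroup (Q.subgroupOf S),
      Nat.card_congr (Subgroup.subgroupOfEquivOfLe h.core_le).toEquiv]
    exact lt_mul_of_one_lt_right Nat.card_pos (Subgroup.one_lt_card_iff_ne_bot Q |>.2 h.core_ne_bot)
  set V' := centerThompsonAOf (⊤ : Subgroup Ω') with hV'
  have hV'N : ¬ NTriv E p V' := fun hh => hEn (h.small Ω' ⊤ hS' hcard E hEs hh)
  set V := preimageAlong θ V' with hV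
  have hQV : Q ≤ V := (ker_map_eq h.core_le hker).ge.trans (ker_map_le_preimageAlong θ V')
  have hVS : V ≤ S := preimageAlong_le θ V'
  haveI := finite_sub hVS
  have hVn : S ≤ Subgroup.normalizer (V : Set Ω) := fun g hg => mem_normalizer_of_conj_mem fun x hx => by
    obtain ⟨hxS, hx'⟩ := mem_preimageAlong.1 hx
    refine mem_preimageAlong.2 ⟨mul_mem (mul_mem hg hxS) (Subgroup.inv_mem _ hg), ?_⟩
    have := conj_mem_centerThompsonAOf (S := (⊤ : Subgroup Ω')) le_rfl (g := θ ⟨g, hg⟩)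
      (Subgroup.le_normalizer (Subgroup.mem_top _)) hx'
    rwa [← map_inv, ← map_mul, ← map_mul] at this
  have hVF : ¬ NTriv F p V := fun hh => hV'N fun D' hVD' hD' β hβ hpres hco => by
    obtain ⟨φ', hφ', hr', he'⟩ := exists_hom_of_aut (hD'.trans (normalizerIn_le V')) hβ
    set D := preimageAlong θ D' with hD
    obtain ⟨hD'S, φ, (hφ : φ ∈ F.Hom D), hind⟩ := (hE.2.2.2 _ _).1 hφ'
    have hK : F.StronglyClosed (θ.ker.map S.subtype) := by rw [ker_map_eq h.core_le hker]; exact hQsc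
    have hrange : φ.range = preimageAlong θ D' := by rw [range_eq_preimage hK hr hD'S hφ hind, hr']
    obtain ⟨γ, hγF, hγe⟩ : ∃ γ : MulAut D, γ ∈ F.autGroup D ∧ ∀ x, ((γ x : D) : Ω) = φ x :=
      ⟨_, homEquiv_mem_autGroup hφ hrange, fun _ => rfl⟩
    have hDS : D ≤ S := preimageAlong_le θ D'
    haveI := finite_sub hDS
    haveI := finite_mulAut D
    have hθ : ∀ x : D, θ ⟨x, hDS x.2⟩ ∈ D' := fun x => (mem_preimageAlong.1 x.2).2
    have hcomp : ∀ (j : ℕ) (x : D), (((β ^ j) ⟨_, hθ x⟩ : D') : Ω') = θ ⟨((γ ^ j) x : D), hDS ((γ ^ j) x).2⟩ := by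
      intro j
      induction j with
      | zero => intro x; rfl
      | succ j ih =>
        intro x
        rw [pow_succ', MulAut.mul_apply,
          show (β ^ j) ⟨_, hθ x⟩ = ⟨_, hθ ((γ ^ j) x)⟩ from Subtype.ext (ih x), ← he']
        refine (inducedAlong_apply hind _ _ _ (apply_mem hφ _)).trans (congrArg θ (Subtype.ext ?_))
        rw [pow_succ', MulAut.mul_apply, hγe]
    have hpresγ : γ ∈ preserve V D := fun x => mem_iff_apply_mem (fun y hy => by
      obtain ⟨hyS, hy'⟩ := mem_preimageAlong.1 hy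
      refine mem_preimageAlong.2 ⟨hDS (γ y).2, ?_⟩
      have h1 := hcomp 1 y
      rw [pow_one, pow_one] at h1
      exact h1 ▸ hpres ⟨_, hθ y⟩ hy') x
    obtain ⟨k, hk⟩ := exists_pow_coprime (p := p) γ
    have hδ1 := hh D (fun x hx => by
        obtain ⟨hxS, hx'⟩ := mem_preimageAlong.1 hx
        exact mem_preimageAlong.2 ⟨hxS, hVD' hx'⟩)
      (le_inf hDS (hDS.trans hVn)) _ (pow_mem hγF _)
      (fun x hx => ((pow_mem hpresγ (p ^ k)) x).1 hx) hk
    refine eq_one_of_pow_coprime hco (k := k) (MulEquiv.ext fun y => ?_)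
    obtain ⟨⟨s, hs⟩, hsy⟩ := hr.ge (Subgroup.mem_top (y : Ω'))
    have hsD : (s : Ω) ∈ D := mem_preimageAlong.2 ⟨hs, hsy ▸ y.2⟩
    rw [show y = ⟨_, hθ ⟨s, hsD⟩⟩ from Subtype.ext hsy.symm]
    refine Subtype.ext ((hcomp _ _).trans ?_)
    rw [show γ ^ p ^ k = 1 from hδ1]
    rfl
  have hVQ : V ≤ Q := le_sSup (isNormal_of_not_ntriv hS hF h.crit hVS hVn hVF)
  refine centerThompsonAOf_ne_bot (S := (⊤ : Subgroup Ω')) hS' le_rfl hS'0 (eq_bot_iff.2 fun v hv => ?_)
  obtain ⟨⟨s, hs⟩, rfl⟩ := hr.ge (Subgroup.mem_top v)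
  exact Subgroup.mem_bot.2 ((hker _).2 (hVQ (mem_preimageAlong.2 ⟨hs, hv⟩)))

/-- A group of automorphisms of the core containing those from `S` contains all, or has no effect of order
prime to `p`. -/
theorem dichotomy {K : Subgroup (MulAut F.core)} (hK : autInducedBy S F.core ≤ K) :
    F.autGroup F.core ≤ K ∨ ∀ (P : Subgroup Ω) (hQP : F.core ≤ P), P ≤ S → ∀ α : preserve F.core P,
      α.1 ∈ F.autGroup P → res hQP α ∈ K → (orderOf α.1).Coprime p → α.1 = 1 := by
  have hS := h.pgroup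
  have hT : S = kNorm S F.core.subtype K := le_antisymm (fun g hg => ⟨hg, _,
    hK (mem_autInducedBy.2 ⟨g, hg, fun y => normalizerMonoidHom_coe F.core ⟨g, h.le_normalizer_core hg⟩ y⟩),
    fun y => (normalizerMonoidHom_coe F.core ⟨g, h.le_normalizer_core hg⟩ y).symm⟩) (kNorm_le _ _)
  obtain ⟨E, hE⟩ := exists_kSystem F h.core_le K hT
  have hsyl : SylowIn p (F.autGroup F.core ⊓ K) (autInducedBy S F.core ⊓ K) := by
    haveI := finite_sub h.core_le
    haveI := finite_mulAut F.core
    have h0 := sylowIn_of_isFullyAutomized (fullyAutomized_of_fullyNormalized hS h.sat h.core_fn)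
    rw [inf_eq_left.2 hK]
    refine ⟨le_inf h0.1 hK, le_antisymm (card_pSubgroup_le (le_inf h0.1 hK) (isPGroup_autInducedBy hS _)) ?_⟩
    rw [h0.2]
    exact Nat.pow_le_pow_right (Fact.out : p.Prime).pos
      ((Nat.factorization_le_iff_dvd Nat.card_pos.ne' Nat.card_pos.ne').2 (Subgroup.card_dvd_of_le inf_le_left) p)
  have hEs : E.IsSaturated p :=
    kSystem_isSaturated hS h.sat (receptive_of_fullyNormalized hS h.sat h.core_fn) hsyl hT hE
  by_cases hP : PTriv E p
  · refine Or.inr fun P hQP hPS α hα hαK hco => hP P hPS _ ?_ hco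
    refine (mem_autGroup hPS).2 ?_
    rw [hE]
    obtain ⟨φ, hφ, -, he⟩ := exists_hom_of_aut hPS hα
    obtain ⟨ψ, hψ, e⟩ := exists_restrict hφ (sup_le le_rfl hQP : P ⊔ F.core ≤ P)
    exact ⟨(mem_autGroup hPS).1 hα, hPS.trans hT.le, fun x => hT.le (hPS (α.1 x).2), ψ, hψ,
      fun x => (e _).trans (he _), _, hαK, fun y => (e _).trans (he _)⟩
  · refine Or.inl fun x hx => ?_
    have h1 := h.crit.2 E hEs (fun P φ hφ => by rw [hE] at hφ; exact hφ.1) hP F.core
      ((mem_autGroup h.core_le).1 hx)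
    rw [hE] at h1
    obtain ⟨-, -, -, ψ, -, hψ, k, hk, hψk⟩ := h1
    rwa [show x = k from MulEquiv.ext fun y => Subtype.ext ((hψ y).symm.trans (hψk y))]

/-- Automorphisms acting on the core as elements of `S` have `p`-power order. -/
theorem eq_one_of_res_mem {P : Subgroup Ω} (hQP : F.core ≤ P) (hP : P ≤ S) (α : preserve F.core P)
    (hα : α.1 ∈ F.autGroup P) (hres : res hQP α ∈ autInducedBy S F.core) (hco : (orderOf α.1).Coprime p) :
    α.1 = 1 :=
  (h.dichotomy le_rfl).resolve_left (fun hle => h.not_isPGroup ((isPGroup_autInducedBy h.pgroup _).to_le hle))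
    P hQP hP α hα hres hco

/-- The automorphisms from `S` are maximal. -/
theorem autInducedBy_maximal (M : Subgroup (MulAut F.core)) (hM : autInducedBy S F.core ≤ M)
    (hMX : M ≤ F.autGroup F.core) : F.autGroup F.core ≤ M ∨ M ≤ autInducedBy S F.core := by
  refine (h.dichotomy hM).imp_right fun hh => ?_
  haveI := finite_sub h.core_le
  haveI := finite_mulAut F.core
  have hMp : IsPGroup p M := isPGroup_of_coprime fun g hg => Subtype.ext <| by
    refine hh F.core le_rfl h.core_le ⟨g.1, h.preserve_core h.core_le (hMX g.2)⟩ (hMX g.2) ?_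
      (by show (orderOf (g : MulAut F.core)).Coprime p; rwa [Subgroup.orderOf_coe])
    convert g.2 using 1
    exact MulEquiv.ext fun y => Subtype.ext rfl
  refine (Subgroup.eq_of_le_of_card_ge hM ?_).ge
  rw [(sylowIn_of_isFullyAutomized (fullyAutomized_of_fullyNormalized h.pgroup h.sat h.core_fn)).2]
  exact card_pSubgroup_le hMX hMp

/-- The elements of `S` inducing on the core automorphisms of an invariant `p`-group lie in the core. -/
theorem preimageAut_le_core {Y : Subgroup (MulAut F.core)} (hY : Y ≤ autInducedBy S F.core)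
    (hn : ∀ x ∈ F.autGroup F.core, ∀ y ∈ Y, x * y * x⁻¹ ∈ Y) : preimageAut S F.core Y ≤ F.core := by
  have hS := h.pgroup
  set L := preimageAut S F.core Y with hL
  haveI := finite_sub h.core_le
  have hLS : L ≤ S := (preimageAut_le F.core Y).trans (normalizerIn_le F.core)
  haveI := finite_sub hLS
  have hLn : S ≤ Subgroup.normalizer (L : Set Ω) := by
    intro g hg
    refine mem_normalizer_of_conj_mem fun x hx => ?_
    obtain ⟨hxN, w, hw, hwx⟩ := hx
    have hgQ : g ∈ Subgroup.normalizer (F.core : Set Ω) := h.le_normalizer_core hg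
    set c := F.core.normalizerMonoidHom ⟨g, hgQ⟩
    refine ⟨⟨mul_mem (mul_mem hg hxN.1) (Subgroup.inv_mem _ hg), mul_mem (mul_mem hgQ hxN.2) (Subgroup.inv_mem _ hgQ)⟩,
      c * w * c⁻¹, hn c (autInducedBy_le_autGroup F h.core_le (mem_autInducedBy.2 ⟨g, hg,
        fun _ => normalizerMonoidHom_coe F.core _ _⟩)) w hw, fun y => ?_⟩
    have e : ((c⁻¹ y : F.core) : Ω) = g⁻¹ * y * g := by
      have h1 := normalizerMonoidHom_coe F.core ⟨g, hgQ⟩ (c⁻¹ y)
      rw [MulAut.apply_inv_self] at h1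
      rw [h1]; group
    rw [MulAut.mul_apply, MulAut.mul_apply, normalizerMonoidHom_coe, hwx, e]
    group
  refine le_sSup (isNormal_of_centricRadical hS h.sat hLS fun P _ hPc hPr => ?_)
  have hPS := hPc.1
  have hQP : F.core ≤ P := isNormal_le_centricRadical hS (FusionAlperin.Join.isNormal_core F) hPc hPr
  haveI := finite_sub hPS
  haveI := finite_mulAut P
  let N : Subgroup (MulAut P) := (Y.comap (res hQP)).map (preserve F.core P).subtype ⊓ F.autGroup P
  have hN : N ≤ Inn P := by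
    refine le_inn_of_radical hPr inf_le_right (fun a ha b hb => ⟨?_, mul_mem (mul_mem ha hb.2) (Subgroup.inv_mem _ ha)⟩) ?_
    · obtain ⟨b', hb', rfl⟩ := hb.1
      refine ⟨(⟨a, h.preserve_core hPS ha⟩ : preserve F.core P) * b' * (⟨a, h.preserve_core hPS ha⟩ : preserve F.core P)⁻¹,
        ?_, by simp⟩
      rw [SetLike.mem_coe, Subgroup.mem_comap, map_mul, map_mul, map_inv]
      exact hn _ (res_mem_autGroup (α := ⟨a, h.preserve_core hPS ha⟩) hQP hPS ha) _ hb'
    · refine isPGroup_of_coprime fun g hg => Subtype.ext ?_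
      obtain ⟨b', hb', e⟩ := g.2.1
      have := h.eq_one_of_res_mem hQP hPS b' (by rw [show (b' : MulAut P) = g from e]; exact g.2.2) (hY hb') (by
        show (orderOf ((preserve F.core P).subtype b')).Coprime p
        rw [e, Subgroup.orderOf_coe]; exact hg)
      exact e.symm.trans this
  refine ⟨le_of_autInducedBy_le_inn hS hPS hLS hLn (hPc.2 P (isConj_refl F hPS)) fun α hα => hN ?_, ?_⟩
  · obtain ⟨g, hg, he⟩ := mem_autInducedBy.1 hα
    have hαF : α ∈ F.autGroup P := autInducedBy_le_autGroup F hPS (mem_autInducedBy.2 ⟨g, hLS hg, he⟩)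
    refine ⟨⟨⟨α, h.preserve_core hPS hαF⟩, ?_, rfl⟩, hαF⟩
    obtain ⟨-, w, hw, hwg⟩ := hg
    rw [SetLike.mem_coe, Subgroup.mem_comap]
    rwa [show res hQP ⟨α, h.preserve_core hPS hαF⟩ = w from
      MulEquiv.ext fun y => Subtype.ext ((he _).trans (hwg y).symm)]
  · intro α hα x hx
    obtain ⟨-, w, hw, hwx⟩ := hx
    set a : preserve F.core P := ⟨α, h.preserve_core hPS hα⟩
    refine ⟨⟨hPS (α x).2, h.le_normalizer_core (hPS (α x).2)⟩, res hQP a * w * (res hQP a)⁻¹,
      hn _ (res_mem_autGroup (α := a) hQP hPS hα) _ hw, fun y => ?_⟩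
    set z := (res hQP a)⁻¹ y with hz
    have hy : y = res hQP a z := by rw [hz, MulAut.apply_inv_self]
    rw [MulAut.mul_apply, MulAut.mul_apply, ← hz, hy, res_coe, res_coe,
      show Subgroup.inclusion hQP (w z) = x * Subgroup.inclusion hQP z * x⁻¹ from Subtype.ext (hwx z),
      map_mul, map_mul, map_inv]
    rfl

theorem centralizer_le_core : centralizerIn S F.core ≤ F.core := fun c hc =>
  h.preimageAut_le_core (Y := ⊥) bot_le (fun x _ y hy => by simp [Subgroup.mem_bot.1 hy])
    ⟨centralizerIn_le_normalizerIn _ hc, 1, one_mem _, fun y => ((mem_centralizerIn'.1 hc).2 y y.2).symm⟩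

theorem pGroup_le_inn {N : Subgroup (MulAut F.core)} (hNX : N ≤ F.autGroup F.core)
    (hn : ∀ x ∈ F.autGroup F.core, ∀ y ∈ N, x * y * x⁻¹ ∈ N) (hp : IsPGroup p N) : N ≤ Inn F.core := by
  haveI := finite_sub h.core_le
  haveI := finite_mulAut F.core
  obtain ⟨-, R, hR⟩ := fullyAutomized_of_fullyNormalized h.pgroup h.sat h.core_fn
  haveI : (N.subgroupOf (F.autGroup F.core)).Normal :=
    ⟨fun n hn' g => hn g g.2 n hn'⟩
  have hNR : N ≤ autInducedBy S F.core := by
    intro n hn'
    have := (hp.of_equiv (Subgroup.subgroupOfEquivOfLe hNX).symm).le_sylow_of_normal R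
      (show (⟨n, hNX hn'⟩ : F.autGroup F.core) ∈ N.subgroupOf (F.autGroup F.core) from hn')
    rw [hR] at this
    exact this
  intro n hn'
  obtain ⟨g, hg, e⟩ := mem_autInducedBy.1 (hNR hn')
  have hgQ : g ∈ F.core :=
    h.preimageAut_le_core hNR hn ⟨⟨hg, h.le_normalizer_core hg⟩, n, hn', e⟩
  exact ⟨⟨g, hgQ⟩, MulEquiv.ext fun x => Subtype.ext (e x).symm⟩

end Setting

end Cfsg.Agent.Lib.FusionP3.GT
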